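import Groth.Agent.EtaNoether.Etale

/-!
# Etale coordinates on a smooth algebra coming from a subring with unramified tensor map
-/

set_option autoImplicit false
set_option backward.isDefEq.respectTransparency false
set_option backward.isDefEq.respectTransparency.types false
set_option linter.style.haveILetI false
universe u

open TensorProduct KaehlerDifferential

noncomputable section

namespace Groth.Agent.DMSlice

/-- differentials of images of the first factor span -/
theorem span_D_eq_top {C A K B : Type u} [CommRing C] [CommRing A] [CommRing K] [CommRing B]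
    [Algebra C A] [Algebra C K] [Algebra K B] (φ : A →+* B) (β : A ⊗[C] K →+* B)
    (hA : ∀ a, β (a ⊗ₜ 1) = φ a) (hK : ∀ k, β (1 ⊗ₜ k) = algebraMap K B k) (hβ : β.FormallyUnramified) :
    Submodule.span B (Set.range fun a => D K B (φ a)) = ⊤ := by
  let T := A ⊗[C] K
  letI : Algebra K T := Algebra.TensorProduct.rightAlgebra
  letI := β.toAlgebra
  haveI : IsScalarTower K T B := IsScalarTower.of_algebraMap_eq fun k => (hK k).symm
  haveI : Algebra.FormallyUnramified T B := hβ
  let N := Submodule.span B (Set.range fun a => D K B (φ a))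
  have hz : ∀ z : T, D K B (β z) ∈ N := fun z => by
    induction z using TensorProduct.induction_on with
    | zero => rw [map_zero, map_zero]; exact zero_mem _
    | add x y hx hy => rw [map_add, map_add]; exact add_mem hx hy
    | tmul a k =>
      rw [show a ⊗ₜ[C] k = (a ⊗ₜ 1) * (1 ⊗ₜ k) by simp, map_mul, hA, hK, Derivation.leibniz,
        Derivation.map_algebraMap, smul_zero, zero_add]
      exact N.smul_mem _ (Submodule.subset_span ⟨a, rfl⟩)
  refine top_le_iff.1 fun w hw => ?_
  clear hw
  obtain ⟨v, rfl⟩ := (exact_mapBaseChange_map K T B w).1 (Subsingleton.elim _ _)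
  induction v using TensorProduct.induction_on with
  | zero => rw [map_zero]; exact zero_mem _
  | add x y hx hy => rw [map_add]; exact add_mem hx hy
  | tmul b ω =>
    rw [mapBaseChange_tmul]
    refine N.smul_mem _ ?_
    have hω : ω ∈ Submodule.span T (Set.range (D K T)) := by rw [span_range_derivation]; trivial
    induction hω using Submodule.span_induction with
    | mem x hx =>
      obtain ⟨z, rfl⟩ := hx
      rw [map_D]
      exact hz z
    | zero => rw [map_zero]; exact zero_mem _
    | add x y _ _ hx hy => rw [map_add]; exact add_mem hx hy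
    | smul r x _ hx => rw [map_smul, ← algebraMap_smul B r]; exact N.smul_mem _ hx

theorem nontrivial_of_isPrime {R : Type u} [CommRing R] {I : Ideal R} (h : I.IsPrime) : Nontrivial R :=
  ⟨⟨0, 1, fun e => h.ne_top ((Ideal.eq_top_iff_one I).2 (e ▸ I.zero_mem))⟩⟩

/-- elements of a spanning family whose coordinates have a unit determinant somewhere -/
theorem exists_det_notMem {B : Type u} [CommRing B] (m : Ideal B) [m.IsMaximal] {d : ℕ} {ι : Type u}
    (v : ι → Fin d → B) (hv : Submodule.span B (Set.range v) = ⊤) :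
    ∃ a : Fin d → ι, (Matrix.of fun i => v (a i)).det ∉ m := by
  letI := Ideal.Quotient.field m
  let S₀ : Set (Fin d → B ⧸ m) := Set.range fun i l => Ideal.Quotient.mk m (v i l)
  have hS : Submodule.span (B ⧸ m) S₀ = ⊤ := top_le_iff.1 fun w _ => by
    choose w' hw' using fun l => Ideal.Quotient.mk_surjective (w l)
    obtain rfl : (fun l => Ideal.Quotient.mk m (w' l)) = w := funext hw'
    have hmem : w' ∈ Submodule.span B (Set.range v) := by rw [hv]; trivial
    clear hw'
    induction hmem using Submodule.span_induction with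
    | mem x hx => obtain ⟨i, rfl⟩ := hx; exact Submodule.subset_span ⟨i, rfl⟩
    | zero => simp only [Pi.zero_apply, map_zero]; exact Submodule.zero_mem _
    | add x y _ _ hx hy => simp only [Pi.add_apply, map_add]; exact Submodule.add_mem _ (hx trivial) (hy trivial)
    | smul r x _ hx =>
      simp only [Pi.smul_apply, smul_eq_mul, map_mul]
      exact Submodule.smul_mem _ (Ideal.Quotient.mk m r) (hx trivial)
  have hn : Module.finrank (B ⧸ m) (Submodule.span (B ⧸ m) S₀) = d := by
    rw [hS, finrank_top, Module.finrank_fin_fun]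
  obtain ⟨f, hf, -, hind⟩ := Submodule.exists_fun_fin_finrank_span_eq (B ⧸ m) S₀
  choose a ha using hf
  refine ⟨fun i => a (Fin.cast hn.symm i), fun hdet => ?_⟩
  have hu := Matrix.linearIndependent_rows_iff_isUnit.1
    (hind.comp _ (Fin.cast_injective hn.symm) :
      LinearIndependent (B ⧸ m) (Matrix.of fun i => f (Fin.cast hn.symm i)).row)
  rw [Matrix.isUnit_iff_isUnit_det] at hu
  refine hu.ne_zero ?_
  rw [← (Ideal.Quotient.eq_zero_iff_mem (I := m)).2 hdet, RingHom.map_det]
  congr 1
  ext i l
  exact (congrFun (ha (Fin.cast hn.symm i)) l).symm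

set_option maxHeartbeats 1000000 in
/-- etale coordinates given by elements of the subring, after localising -/
theorem exists_etale_coords {C A K B : Type u} [CommRing C] [CommRing A] [CommRing K] [CommRing B]
    [Algebra C A] [Algebra C K] [Algebra K B] [Nontrivial B] (hs : (algebraMap K B).Smooth) (φ : A →+* B)
    (β : A ⊗[C] K →+* B) (hA : ∀ a, β (a ⊗ₜ 1) = φ a) (hK : ∀ k, β (1 ⊗ₜ k) = algebraMap K B k)
    (hβ : β.FormallyUnramified) :
    ∃ (d : ℕ) (B' : Type u) (_ : CommRing B') (l : B →+* B') (a : Fin d → A), Nontrivial B' ∧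
      AlgebraicGeometry.IsOpenImmersion (AlgebraicGeometry.Spec.map (CommRingCat.ofHom l)) ∧
      (MvPolynomial.eval₂Hom (l.comp (algebraMap K B)) fun i => l (φ (a i))).Etale := by
  classical
  obtain ⟨q, hq⟩ := Ideal.exists_maximal B
  obtain ⟨s, hs', hloc⟩ := RingHom.smooth_iff_locally_isStandardSmooth.1 hs
  obtain ⟨t, hts, htq⟩ : ∃ t ∈ s, t ∉ q := by
    by_contra h
    push Not at h
    exact hq.ne_top (top_le_iff.1 (hs' ▸ Ideal.span_le.2 h))
  haveI : Nontrivial (Localization.Away t) := by
    haveI := IsLocalization.isPrime_of_isPrime_disjoint (Submonoid.powers t) (Localization.Away t) q hq.isPrime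
      (Set.disjoint_left.2 (by rintro _ ⟨n, rfl⟩ hn; exact htq (hq.isPrime.mem_of_pow_mem n hn)))
    exact nontrivial_of_isPrime this
  let B₁ := Localization.Away t
  let φ₁ : A →+* B₁ := (algebraMap B B₁).comp φ
  let β₁ : A ⊗[C] K →+* B₁ := (algebraMap B B₁).comp β
  have hunr : β₁.FormallyUnramified :=
    RingHom.FormallyUnramified.stableUnderComposition _ _ hβ
      (RingHom.formallyUnramified_algebraMap.2 inferInstance)
  have hspan := span_D_eq_top (K := K) φ₁ β₁ (fun a => congrArg (algebraMap B B₁) (hA a))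
    (fun k => (congrArg (algebraMap B B₁) (hK k)).trans (IsScalarTower.algebraMap_apply K B B₁ k).symm) hunr
  have hstd : ((algebraMap B B₁).comp (algebraMap K B)).IsStandardSmooth := hloc t hts
  obtain ⟨d, g, hgC, hg⟩ := hstd.exists_etale_mvPolynomial
  let x' : Fin d → B₁ := fun i => g (MvPolynomial.X i)
  have hgx : g = (MvPolynomial.aeval x' : MvPolynomial (Fin d) K →ₐ[K] B₁).toRingHom :=
    MvPolynomial.ringHom_ext (fun k => by
      have := DFunLike.congr_fun hgC k
      simpa [← IsScalarTower.algebraMap_apply] using this) fun i => by simp [x']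
  rw [hgx] at hg
  obtain ⟨-, -, hb⟩ := EtaNoether.lin_bijective_of_etale x' hg
  let e := LinearEquiv.ofBijective (EtaNoether.lin K x') hb
  have hv : Submodule.span B₁ (Set.range fun a => e.symm (D K B₁ (φ₁ a))) = ⊤ := by
    rw [show (fun a => e.symm (D K B₁ (φ₁ a))) = ⇑e.symm ∘ (fun a => D K B₁ (φ₁ a)) from rfl, Set.range_comp,
      show (⇑e.symm '' _) = ⇑(e.symm : Ω[B₁⁄K] →ₗ[B₁] _) '' _ from rfl, ← Submodule.map_span, hspan,
      Submodule.map_top, LinearMap.range_eq_top]
    exact e.symm.surjective
  obtain ⟨m, hm⟩ := Ideal.exists_maximal B₁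
  obtain ⟨a, ha⟩ := exists_det_notMem m _ hv
  let M : Matrix (Fin d) (Fin d) B₁ := Matrix.of fun i => e.symm (D K B₁ (φ₁ (a i)))
  have hD : ∀ i, D K B₁ (φ₁ (a i)) = ∑ l, M i l • D K B₁ (x' l) := fun i => by
    rw [← e.apply_symm_apply (D K B₁ (φ₁ (a i)))]
    rw [LinearEquiv.ofBijective_apply, EtaNoether.lin, Fintype.linearCombination_apply]
    rfl
  let B₂ := Localization.Away M.det
  have hne : Nontrivial B₂ := by
    haveI := IsLocalization.isPrime_of_isPrime_disjoint (Submonoid.powers M.det) B₂ m hm.isPrime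
      (Set.disjoint_left.2 (by rintro _ ⟨n, rfl⟩ hn; exact ha (hm.isPrime.mem_of_pow_mem n hn)))
    exact nontrivial_of_isPrime this
  let l₂ := algebraMap B₁ B₂
  haveI : IsScalarTower K B₁ B₂ := inferInstance
  have hg₂ : (MvPolynomial.aeval (fun i => l₂ (x' i)) : MvPolynomial (Fin d) K →ₐ[K] B₂).toRingHom.Etale := by
    rw [show (MvPolynomial.aeval (fun i => l₂ (x' i)) : MvPolynomial (Fin d) K →ₐ[K] B₂).toRingHom =
      l₂.comp (MvPolynomial.aeval x' : MvPolynomial (Fin d) K →ₐ[K] B₁).toRingHom from
      MvPolynomial.ringHom_ext (fun k => by simp [l₂, ← IsScalarTower.algebraMap_apply]) fun i => by simp [l₂]]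
    exact RingHom.Etale.stableUnderComposition _ _ hg
      (RingHom.etale_algebraMap.2 (Algebra.Etale.of_isLocalizationAway M.det))
  have hdet : IsUnit (l₂.mapMatrix M).det := by
    rw [← RingHom.map_det]
    exact IsLocalization.Away.algebraMap_isUnit M.det
  have hD₂ : ∀ i, D K B₂ (l₂ (φ₁ (a i))) = ∑ l, (l₂.mapMatrix M) i l • D K B₂ (l₂ (x' l)) := fun i => by
    have h := congrArg (KaehlerDifferential.map K K B₁ B₂) (hD i)
    simp only [map_D, map_sum, map_smul] at h
    refine h.trans (Finset.sum_congr rfl fun l _ => ?_)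
    rw [RingHom.mapMatrix_apply, Matrix.map_apply]
    exact (IsScalarTower.algebraMap_smul (R := B₁) B₂ (M i l) (D K B₂ (l₂ (x' l)))).symm
  have het := EtaNoether.etale_of_det _ (fun i => l₂ (φ₁ (a i))) hg₂ _ hdet hD₂
  refine ⟨d, B₂, inferInstance, l₂.comp (algebraMap B B₁), a, hne, ?_, ?_⟩
  · rw [CommRingCat.ofHom_comp, AlgebraicGeometry.Spec.map_comp]
    haveI := AlgebraicGeometry.IsOpenImmersion.of_isLocalization (S := B₁) t
    haveI := AlgebraicGeometry.IsOpenImmersion.of_isLocalization (S := B₂) M.det
    infer_instance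
  · convert het using 1
    refine MvPolynomial.ringHom_ext (fun k => ?_) fun i => ?_
    · simp [l₂, ← IsScalarTower.algebraMap_apply]
    · simp [φ₁]

end Groth.Agent.DMSlice

end
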