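import Groth.Agent.DMSlice.Descend
import Groth.Agent.LimDesc.FPCancel

/-!
# Etale near a point: from fibres, and after slicing
-/

set_option autoImplicit false
set_option backward.isDefEq.respectTransparency false
set_option backward.isDefEq.respectTransparency.types false
set_option linter.style.haveILetI false
universe u

open CategoryTheory CategoryTheory.Limits AlgebraicGeometry

noncomputable section

namespace Groth.Agent.DMSlice

open Groth.Agent.FibreFlat

/-- cancelling a monomorphism in a pullback square -/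
theorem isPullback_cancel_mono {C : Type*} [Category C] {W A B X Y : C} {a : W ⟶ A} {b : W ⟶ B} {f : A ⟶ X}
    {g : B ⟶ X} (j : X ⟶ Y) [Mono j] (h : IsPullback a b (f ≫ j) (g ≫ j)) : IsPullback a b f g := by
  have w : a ≫ f = b ≫ g := (cancel_mono j).1 (by simpa using h.w)
  refine IsPullback.of_isLimit (PullbackCone.IsLimit.mk w
    (fun c => h.lift c.fst c.snd (by rw [c.condition_assoc])) (fun c => h.lift_fst _ _ _) (fun c => h.lift_snd _ _ _)
    fun c m h1 h2 => h.hom_ext (by rw [h.lift_fst, h1]) (by rw [h.lift_snd, h2]))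

/-- a map etale near a point of its base change along a smooth fibre is etale near the image -/
theorem exists_etale_nhd_of_fibre {X Y T X' Y' T' : Scheme.{u}} {f : X ⟶ Y} {h : Y ⟶ T} {h' : Y' ⟶ T'}
    {g : T' ⟶ T} {gY : Y' ⟶ Y} [LocallyOfFinitePresentation f] [LocallyOfFiniteType h]
    [Smooth (f ≫ h)] (sqY : IsPullback gY h' h g) (e : X' ⟶ pullback f gY) [IsOpenImmersion e]
    [Etale (e ≫ pullback.snd f gY)] (x : X') :
    ∃ U : X.Opens, pullback.fst f gY (e x) ∈ U ∧ Etale (U.ι ≫ f) := by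
  have hW : Etale (e.opensRange.ι ≫ pullback.snd f gY) := by
    rw [show e.opensRange.ι = e.isoOpensRange.inv ≫ e by simp, Category.assoc]
    infer_instance
  have hx : e x ∈ e.opensRange := ⟨x, rfl⟩
  have hflat : FlatAt f (pullback.fst f gY (e x)) :=
    flatAt_of_baseChange sqY (IsPullback.of_hasPullback f gY) (flatAt_of_nearAt hx)
  obtain ⟨W, hxW, hWu⟩ := UnramPt.exists_nhd_of_baseChange f gY (e x) _ hx inferInstance
  exact FieldPow.exists_etale_nhd f _ hflat ((UnramPoint.exists_nhd_iff_stalkMap f _).1 ⟨W, hxW, hWu⟩)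

set_option maxHeartbeats 1000000 in
/-- the slice along a section over an etale cover of the base is etale where the pair is etale -/
theorem nearAt_etale_slice {R₀ U UA P S S' R₂ : Scheme.{u}} (p : U ⟶ S) (q : P ⟶ S) (s t : R₀ ⟶ U)
    (hw : t ≫ p = s ≫ p) (jA : UA ⟶ U) [Mono jA] (f : UA ⟶ P) (hf : f ≫ q = jA ≫ p) (g : S' ⟶ S) [Etale g]
    (σ : S' ⟶ P) (hσ : σ ≫ q = g) (j : R₂ ⟶ R₀) [IsOpenImmersion j] (t₂ : R₂ ⟶ UA) (ht₂ : t₂ ≫ jA = j ≫ t)
    (w₂ : (j ≫ s) ≫ p = (t₂ ≫ f) ≫ q) (hψ : Etale (pullback.lift (j ≫ s) (t₂ ≫ f) w₂))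
    (x : ↑(pullback t (pullback.fst f σ ≫ jA))) (r : R₂) (hr : j r = pullback.fst t (pullback.fst f σ ≫ jA) x) :
    NearAt @Etale (pullback.fst t (pullback.fst f σ ≫ jA) ≫ s) x := by
  let π := pullback.fst f σ ≫ jA
  let fR := pullback.fst t π
  let w := pullback.fst fR j
  let b := pullback.snd fR j
  let a := w ≫ pullback.snd t π
  have sqA : IsPullback b a (t₂ ≫ jA) (pullback.fst f σ ≫ jA) := by
    rw [ht₂]
    exact (IsPullback.of_hasPullback fR j).flip.paste_vert (IsPullback.of_hasPullback t π)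
  have sqB : IsPullback b (a ≫ pullback.snd f σ) (t₂ ≫ f) σ :=
    (isPullback_cancel_mono jA sqA).flip.paste_horiz (IsPullback.of_hasPullback f σ).flip |>.flip
  let fU := pullback.fst p g
  let sU := pullback.snd p g
  let ζ : pullback p g ⟶ pullback p q := pullback.lift fU (sU ≫ σ) (by rw [Category.assoc, hσ]; exact pullback.condition)
  have sqζ : IsPullback ζ sU (pullback.snd p q) σ := by
    refine IsPullback.of_right ?_ (pullback.lift_snd _ _ _) (IsPullback.of_hasPullback p q)
    rw [show ζ ≫ pullback.fst p q = fU from pullback.lift_fst _ _ _, hσ]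
    exact IsPullback.of_hasPullback p g
  have hc : (b ≫ j ≫ s) ≫ p = (a ≫ pullback.snd f σ) ≫ g := by
    rw [← hσ, Category.assoc, w₂, ← Category.assoc b (t₂ ≫ f), sqB.w]
    simp only [Category.assoc]
  let g₂ : pullback fR j ⟶ pullback p g := pullback.lift (b ≫ j ≫ s) (a ≫ pullback.snd f σ) hc
  have sq₂ : IsPullback b g₂ (pullback.lift (j ≫ s) (t₂ ≫ f) w₂) ζ := by
    refine IsPullback.of_bot (v₁₂ := pullback.lift (j ≫ s) (t₂ ≫ f) w₂) ?_ ?_ sqζ
    · rw [show g₂ ≫ sU = a ≫ pullback.snd f σ from pullback.lift_snd _ _ _, pullback.lift_snd]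
      exact sqB
    · apply pullback.hom_ext
      · rw [Category.assoc, Category.assoc, pullback.lift_fst, pullback.lift_fst, pullback.lift_fst]
      · rw [Category.assoc, Category.assoc, pullback.lift_snd, pullback.lift_snd, ← Category.assoc g₂,
          pullback.lift_snd]
        exact sqB.w
  haveI : Etale g₂ := MorphismProperty.of_isPullback sq₂ hψ
  haveI : Etale (w ≫ fR ≫ s) := by
    rw [← Category.assoc, show w ≫ fR = b ≫ j from pullback.condition, Category.assoc,
      ← show g₂ ≫ fU = b ≫ j ≫ s from pullback.lift_fst _ _ _]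
    infer_instance
  obtain ⟨y, hy, -⟩ := Scheme.Pullback.exists_preimage_pullback (f := fR) (g := j) x r hr.symm
  refine ⟨w.opensRange, ⟨y, hy⟩, ?_⟩
  show Etale (w.opensRange.ι ≫ fR ≫ s)
  rw [show w.opensRange.ι = w.isoOpensRange.inv ≫ w by simp, Category.assoc]
  infer_instance

end Groth.Agent.DMSlice

end
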