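import Groth.Agent.DMSlice.Affine
import Groth.Agent.DMSlice.Coords
import Groth.Agent.DMSlice.EtaleAt
import Groth.Agent.SmSect.Basic
import Groth.Agent.EtSmDescent.Smooth

/-!
# Slicing a smooth chart to an etale one at a point, when the pair of maps is unramified
-/

set_option autoImplicit false
set_option backward.isDefEq.respectTransparency false
set_option backward.isDefEq.respectTransparency.types false
set_option linter.style.haveILetI false
universe u

open CategoryTheory CategoryTheory.Limits AlgebraicGeometry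

noncomputable section

namespace Groth.Agent.DMSlice

/-- an open of a fibre over a field extension meets a section over an etale neighbourhood of the base point -/
theorem exists_section_point {P S PK : Scheme.{u}} (q : P ⟶ S) [Smooth q] {K : Type u} [Field K] (b : S)
    (k : Spec (CommRingCat.of K) ⟶ Spec (S.residueField b)) (mK : PK ⟶ P) (sK : PK ⟶ Spec (CommRingCat.of K))
    (sq : IsPullback mK sK q (k ≫ S.fromSpecResidueField b)) (Ω : Set PK) (hΩ : IsOpen Ω) (hne : Ω.Nonempty) :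
    ∃ ω ∈ Ω, ∃ (S' : Scheme.{u}) (g : S' ⟶ S) (σ : S' ⟶ P) (s' : S'), Etale g ∧ σ ≫ q = g ∧ σ s' = mK ω := by
  let mb : PK ⟶ q.fiber b := pullback.lift mK (sK ≫ k) (by rw [Category.assoc]; exact sq.w)
  have sqb : IsPullback mb sK (q.fiberToSpecResidueField b) k := by
    refine IsPullback.of_right ?_ (pullback.lift_snd _ _ _) (IsPullback.of_hasPullback q (S.fromSpecResidueField b))
    rw [show mb ≫ pullback.fst q (S.fromSpecResidueField b) = mK from pullback.lift_fst _ _ _]
    exact sq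
  haveI : UniversallyOpen mb := MorphismProperty.of_isPullback sqb.flip inferInstance
  obtain ⟨O, hO, hOeq⟩ := (q.fiberι b).isEmbedding.isInducing.isOpen_iff.1 (mb.isOpenMap _ hΩ)
  obtain ⟨ω₀, hω₀⟩ := hne
  have hmem : q.fiberι b (mb ω₀) ∈ O := by
    rw [← Set.mem_preimage, hOeq]
    exact ⟨ω₀, hω₀, rfl⟩
  let O' : P.Opens := ⟨O, hO⟩
  obtain ⟨S', g, s', hg, hgs, h, hh⟩ := SmSect.exists_etale_section (O'.ι ≫ q) ⟨_, hmem⟩
  have hb : q ((h ≫ O'.ι) s') = b → ∃ ω ∈ Ω, (h ≫ O'.ι) s' = mK ω := fun e => by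
    obtain ⟨y, hy⟩ := (q.range_fiberι b).ge e
    have hyO : y ∈ mb '' Ω := by
      rw [← hOeq, Set.mem_preimage, hy, Scheme.Hom.comp_apply]
      exact (h s').2
    obtain ⟨ω, hω, rfl⟩ := hyO
    refine ⟨ω, hω, hy.symm.trans ?_⟩
    rw [← Scheme.Hom.comp_apply]
    exact congrArg (fun m => (ConcreteCategory.hom (Scheme.Hom.toLRSHom m).base) ω) (pullback.lift_fst _ _ _)
  have he : q ((h ≫ O'.ι) s') = b := by
    rw [← Scheme.Hom.comp_apply, Category.assoc, hh, hgs, Scheme.Hom.comp_apply, Scheme.Opens.ι_apply]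
    exact (q.range_fiberι b).le ⟨_, rfl⟩
  obtain ⟨ω, hω, e⟩ := hb he
  exact ⟨ω, hω, S', g, h ≫ O'.ι, s', hg, by rw [Category.assoc, hh], e⟩

variable {R₀ U S : Scheme.{u}} {p : U ⟶ S} {s t : R₀ ⟶ U} {v : U}

/-- affine space over the base piece of affine data -/
abbrev FibData.affSp (D : FibData p s t v) (d : ℕ) : Scheme.{u} :=
  Spec (CommRingCat.of (MvPolynomial (Fin d) D.C))

/-- its structure map -/
abbrev FibData.affStr (D : FibData p s t v) (d : ℕ) : D.affSp d ⟶ S :=
  EtSmDescent.affProj D.C d ≫ D.jC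

/-- affine space over the residue field -/
abbrev FibData.affFib (_D : FibData p s t v) (d : ℕ) : Scheme.{u} :=
  Spec (CommRingCat.of (MvPolynomial (Fin d) (U.residueField v)))

/-- the map from affine space over the residue field -/
abbrev FibData.affMap (D : FibData p s t v) (d : ℕ) : D.affFib d ⟶ D.affSp d :=
  Spec.map (CommRingCat.ofHom (MvPolynomial.map D.cK.hom))

theorem FibData.isPullback_aff (D : FibData p s t v) (d : ℕ) :
    IsPullback (D.affMap d) (EtSmDescent.affProj (U.residueField v) d) (D.affStr d)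
      (U.fromSpecResidueField v ≫ p) := by
  letI := D.cK.hom.toAlgebra
  haveI := D.hC
  letI : Algebra (MvPolynomial (Fin d) D.C) (MvPolynomial (Fin d) (U.residueField v)) :=
    MvPolynomial.algebraMvPolynomial
  have h : IsPushout (CommRingCat.ofHom (MvPolynomial.C : D.C →+* MvPolynomial (Fin d) D.C)) D.cK
      (CommRingCat.ofHom (MvPolynomial.map D.cK.hom))
      (CommRingCat.ofHom (MvPolynomial.C : U.residueField v →+* MvPolynomial (Fin d) (U.residueField v))) :=
    CommRingCat.isPushout_of_isPushout D.C (MvPolynomial (Fin d) D.C) (U.residueField v)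
      (MvPolynomial (Fin d) (U.residueField v))
  rw [D.hcK]
  have h₁ : IsPullback (Spec.map D.cK) (𝟙 _) D.jC (Spec.map D.cK ≫ D.jC) := by
    simpa using (IsPullback.of_vert_isIso (fst := Spec.map D.cK) (snd := 𝟙 _) (f := 𝟙 _) (g := Spec.map D.cK)
      ⟨by simp⟩).paste_horiz (IsKernelPair.id_of_mono D.jC)
  simpa using (isPullback_SpecMap_of_isPushout _ _ _ _ h).paste_vert h₁

/-- the map to affine space given by sections over the affine piece -/
abbrev FibData.affEval (D : FibData p s t v) {d : ℕ} (a : Fin d → D.A) : Spec D.A ⟶ D.affSp d :=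
  Spec.map (CommRingCat.ofHom (MvPolynomial.eval₂Hom D.κC.hom a))

theorem FibData.affEval_str (D : FibData p s t v) {d : ℕ} (a : Fin d → D.A) :
    D.affEval a ≫ D.affStr d = D.jA ≫ p := by
  rw [D.hκC, ← Category.assoc]
  show (Spec.map _ ≫ Spec.map _) ≫ _ = _
  rw [← Spec.map_comp]
  congr 2
  ext c
  simp

theorem smooth_affStr (D : FibData p s t v) (d : ℕ) : Smooth (D.affStr d) := by
  haveI := D.hC
  haveI := EtSmDescent.smooth_affProj D.C d
  infer_instance

theorem smooth_algebraMap_fibData [Smooth s] (D : FibData p s t v) : D.kB.hom.Smooth := by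
  haveI := D.hB
  haveI : Smooth (s.fiberToSpecResidueField v) := MorphismProperty.pullback_snd _ _ inferInstance
  have : Smooth (Spec.map D.kB) := by rw [← D.hkB]; infer_instance
  exact (HasRingHomProperty.Spec_iff (P := @Smooth)).1 this

set_option maxHeartbeats 1000000 in
/-- near some point of the fibre the pair of maps is etale to the product with affine space -/
theorem FibData.exists_etale_pair [Smooth s] (D : FibData p s t v) (hw₀ : t ≫ p = s ≫ p)
    (hst : FormallyUnramified (pullback.lift t s hw₀)) :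
    ∃ (d : ℕ) (a : Fin d → D.A) (R₂ : Scheme.{u}) (j : R₂ ⟶ R₀) (_ : IsOpenImmersion j) (t₂ : R₂ ⟶ Spec D.A)
      (w₂ : (j ≫ s) ≫ p = (t₂ ≫ D.affEval a) ≫ D.affStr d),
      t₂ ≫ D.jA = j ≫ t ∧ Etale (pullback.lift (j ≫ s) (t₂ ≫ D.affEval a) w₂) ∧
      ∃ Ω : Set (D.affFib d), IsOpen Ω ∧ Ω.Nonempty ∧
        ∀ ω ∈ Ω, ∃ r : R₂, s (j r) = v ∧ D.affEval a (t₂ r) = D.affMap d ω := by
  letI := D.κC.hom.toAlgebra
  letI := D.cK.hom.toAlgebra
  letI := D.kB.hom.toAlgebra
  haveI := D.hA
  haveI := D.hB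
  haveI := D.hC
  haveI := D.nonempty
  have hβ : D.β.FormallyUnramified := (HasRingHomProperty.Spec_iff (P := @FormallyUnramified)).1
    (D.prop_β cancels_unramified hw₀ hst)
  obtain ⟨d, B', _, l, a, hne, hl, het⟩ := exists_etale_coords (K := U.residueField v)
    (smooth_algebraMap_fibData D) D.φ.hom D.β D.β_left D.β_right hβ
  haveI := hl
  let lm : Spec (CommRingCat.of B') ⟶ Spec D.B := Spec.map (CommRingCat.ofHom l)
  let jB' : Spec (CommRingCat.of B') ⟶ s.fiber v := lm ≫ D.jB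
  let η : Spec (CommRingCat.of B') ⟶ D.affFib d := Spec.map (CommRingCat.ofHom
    (MvPolynomial.eval₂Hom (l.comp D.kB.hom) fun i => l (D.φ.hom (a i))))
  haveI : Etale η := (HasRingHomProperty.Spec_iff (P := @Etale)).2 het
  let sK := EtSmDescent.affProj (U.residueField v) d
  have hηs : η ≫ sK = jB' ≫ s.fiberToSpecResidueField v := by
    rw [show jB' ≫ s.fiberToSpecResidueField v = lm ≫ Spec.map D.kB by rw [Category.assoc, D.hkB]]
    show Spec.map _ ≫ Spec.map _ = Spec.map _ ≫ Spec.map _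
    rw [← Spec.map_comp, ← Spec.map_comp]
    congr 1
    ext c
    simp
  have hηm : η ≫ D.affMap d = lm ≫ Spec.map D.φ ≫ D.affEval a := by
    show Spec.map _ ≫ Spec.map _ = Spec.map _ ≫ Spec.map _ ≫ Spec.map _
    rw [← Spec.map_comp, ← Spec.map_comp, ← Spec.map_comp]
    congr 1
    refine CommRingCat.hom_ext (MvPolynomial.ringHom_ext (fun c => ?_) fun i => ?_)
    · simp only [CommRingCat.hom_comp, CommRingCat.hom_ofHom, RingHom.comp_apply, MvPolynomial.map_C,
        MvPolynomial.eval₂Hom_C]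
      exact congrArg l (congrArg (fun m => m.hom c) D.hw).symm
    · simp
  let PU := pullback p (D.affStr d)
  let mU : D.affFib d ⟶ PU := pullback.lift (sK ≫ U.fromSpecResidueField v) (D.affMap d)
    (by rw [Category.assoc]; exact (D.isPullback_aff d).w.symm)
  have sqY : IsPullback mU sK (pullback.fst p (D.affStr d)) (U.fromSpecResidueField v) := by
    refine IsPullback.of_right ?_ (pullback.lift_fst _ _ _) (IsPullback.of_hasPullback p (D.affStr d)).flip
    rw [show mU ≫ pullback.snd p (D.affStr d) = D.affMap d from pullback.lift_snd _ _ _]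
    exact D.isPullback_aff d
  let R₁ : R₀.Opens := t ⁻¹ᵁ D.jA.opensRange
  let t₁ : (R₁ : Scheme.{u}) ⟶ Spec D.A := IsOpenImmersion.lift D.jA (R₁.ι ≫ t) (by
    rintro _ ⟨z, rfl⟩
    rw [Scheme.Hom.comp_apply]
    exact z.2)
  have ht₁ : t₁ ≫ D.jA = R₁.ι ≫ t := IsOpenImmersion.lift_fac _ _ _
  have w₁ : (R₁.ι ≫ s) ≫ p = (t₁ ≫ D.affEval a) ≫ D.affStr d := by
    rw [Category.assoc t₁, D.affEval_str, reassoc_of% ht₁, Category.assoc, hw₀]
  let ψ : (R₁ : Scheme.{u}) ⟶ PU := pullback.lift (R₁.ι ≫ s) (t₁ ≫ D.affEval a) w₁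
  have hψs : ψ ≫ pullback.fst p (D.affStr d) = R₁.ι ≫ s := pullback.lift_fst _ _ _
  haveI := smooth_affStr D d
  haveI : Smooth (ψ ≫ pullback.fst p (D.affStr d)) := by rw [hψs]; infer_instance
  haveI : LocallyOfFinitePresentation ψ := LimDesc.lfp_of_comp ψ (pullback.fst p (D.affStr d))
  have hrange : Set.range (jB' ≫ s.fiberι v) ⊆ Set.range R₁.ι := by
    rintro _ ⟨z, rfl⟩
    rw [Scheme.Opens.range_ι]
    refine ⟨Spec.map D.φ (lm z), ?_⟩
    rw [← Scheme.Hom.comp_apply, ← Scheme.Hom.comp_apply, ← Scheme.Hom.comp_apply, Category.assoc,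
      Category.assoc, D.hφ]
  let i₁ : Spec (CommRingCat.of B') ⟶ R₁ := IsOpenImmersion.lift R₁.ι (jB' ≫ s.fiberι v) hrange
  have hi₁ : i₁ ≫ R₁.ι = jB' ≫ s.fiberι v := IsOpenImmersion.lift_fac _ _ _
  have hit : i₁ ≫ t₁ = lm ≫ Spec.map D.φ := by
    rw [← cancel_mono D.jA, Category.assoc, ht₁, reassoc_of% hi₁, Category.assoc, D.hφ, Category.assoc]
  have hc : i₁ ≫ ψ = η ≫ mU := by
    apply pullback.hom_ext
    · rw [Category.assoc, Category.assoc, hψs, pullback.lift_fst, reassoc_of% hi₁, reassoc_of% hηs]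
      exact congrArg (jB' ≫ ·) pullback.condition
    · rw [Category.assoc, Category.assoc, pullback.lift_snd, pullback.lift_snd, reassoc_of% hit, hηm]
  let e : Spec (CommRingCat.of B') ⟶ pullback ψ mU := pullback.lift i₁ η hc
  let k : pullback ψ mU ⟶ s.fiber v := pullback.lift (pullback.fst ψ mU ≫ R₁.ι) (pullback.snd ψ mU ≫ sK) (by
    rw [Category.assoc, ← hψs, Category.assoc, ← sqY.w, pullback.condition_assoc])
  have sqk : IsPullback (pullback.fst ψ mU) k R₁.ι (s.fiberι v) := by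
    refine IsPullback.of_bot (v₂₁ := s.fiberToSpecResidueField v) ?_ (pullback.lift_fst _ _ _).symm
      (IsPullback.of_hasPullback s (U.fromSpecResidueField v))
    rw [show k ≫ s.fiberToSpecResidueField v = pullback.snd ψ mU ≫ sK from pullback.lift_snd _ _ _, ← hψs]
    exact (IsPullback.of_hasPullback ψ mU).paste_vert sqY
  haveI : IsOpenImmersion k := MorphismProperty.of_isPullback sqk inferInstance
  haveI : IsOpenImmersion e := by
    haveI : IsOpenImmersion (e ≫ k) := by
      rw [show e ≫ k = jB' from pullback.hom_ext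
        (by rw [Category.assoc, pullback.lift_fst, pullback.lift_fst_assoc]; exact hi₁)
        (by rw [Category.assoc, pullback.lift_snd, pullback.lift_snd_assoc]; exact hηs)]
      infer_instance
    exact IsOpenImmersion.of_comp e k
  haveI : Etale (e ≫ pullback.snd ψ mU) := by rw [pullback.lift_snd]; infer_instance
  obtain ⟨q₀⟩ : Nonempty (Spec (CommRingCat.of B')) := PrimeSpectrum.nonempty_iff_nontrivial.2 hne
  obtain ⟨Re, hRe, hRet⟩ := exists_etale_nhd_of_fibre sqY e q₀
  have heq : ∀ z, pullback.fst ψ mU (e z) = i₁ z := fun z => by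
    rw [← Scheme.Hom.comp_apply, pullback.lift_fst]
  rw [heq] at hRe
  have w₂ : ((Re.ι ≫ R₁.ι) ≫ s) ≫ p = ((Re.ι ≫ t₁) ≫ D.affEval a) ≫ D.affStr d := by
    simpa only [Category.assoc] using congrArg (Re.ι ≫ ·) w₁
  refine ⟨d, a, _, Re.ι ≫ R₁.ι, inferInstance, Re.ι ≫ t₁, w₂, by rw [Category.assoc, ht₁, Category.assoc], ?_,
    η '' (i₁ ⁻¹' Re), η.isOpenMap _ (Re.2.preimage i₁.continuous), ⟨η q₀, q₀, hRe, rfl⟩, ?_⟩
  · rw [show pullback.lift ((Re.ι ≫ R₁.ι) ≫ s) ((Re.ι ≫ t₁) ≫ D.affEval a) w₂ = Re.ι ≫ ψ from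
      pullback.hom_ext (by rw [Category.assoc Re.ι ψ, hψs, pullback.lift_fst, Category.assoc])
        (by rw [Category.assoc Re.ι ψ, pullback.lift_snd, pullback.lift_snd, Category.assoc])]
    exact hRet
  · rintro _ ⟨z, hz, rfl⟩
    refine ⟨⟨i₁ z, hz⟩, ?_, ?_⟩
    · have h1 : (Re.ι ≫ R₁.ι) ⟨i₁ z, hz⟩ = s.fiberι v (jB' z) :=
        (Scheme.Hom.comp_apply _ _ _).trans ((congrArg R₁.ι (Scheme.Opens.ι_apply _ _)).trans
          (by rw [← Scheme.Hom.comp_apply, hi₁, Scheme.Hom.comp_apply]))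
      rw [h1]
      exact (s.range_fiberι v).le ⟨_, rfl⟩
    · rw [← Scheme.Hom.comp_apply η, hηm, Scheme.Hom.comp_apply (Re.ι) t₁, Scheme.Opens.ι_apply,
        ← Scheme.Hom.comp_apply i₁ t₁, hit, ← Scheme.Hom.comp_apply, Category.assoc]

set_option maxHeartbeats 1000000 in
/-- a slice of the target on which the first map is etale at a point of a given fibre -/
theorem exists_slice_etale [Smooth s] (hw₀ : t ≫ p = s ≫ p) (hst : FormallyUnramified (pullback.lift t s hw₀))
    (r₀ : R₀) :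
    ∃ (M : Scheme.{u}) (π : M ⟶ U) (x : ↑(pullback t π)), LocallyOfFinitePresentation π ∧
      s (pullback.fst t π x) = s r₀ ∧ NearAt @Etale (pullback.fst t π ≫ s) x := by
  obtain ⟨D⟩ := exists_fibData p s t hw₀ r₀
  haveI := D.hA
  obtain ⟨d, a, R₂, j, hj, t₂, w₂, ht₂, hψ, Ω, hΩ, hne, hΩr⟩ := D.exists_etale_pair hw₀ hst
  haveI := smooth_affStr D d
  obtain ⟨ω, hω, S', g, σ, s', hg, hσ, hσs⟩ := exists_section_point (D.affStr d) (p (s r₀))
    (Spec.map (p.residueFieldMap (s r₀))) (D.affMap d) (EtSmDescent.affProj (U.residueField (s r₀)) d) (by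
      rw [Scheme.Hom.SpecMap_residueFieldMap_fromSpecResidueField]
      exact D.isPullback_aff d) Ω hΩ hne
  obtain ⟨r, hr, hfr⟩ := hΩr ω hω
  obtain ⟨m, hm, -⟩ := Scheme.Pullback.exists_preimage_pullback (f := D.affEval a) (g := σ) (t₂ r) s'
    (hfr.trans hσs.symm)
  obtain ⟨x, hx, -⟩ := Scheme.Pullback.exists_preimage_pullback (f := t)
    (g := pullback.fst (D.affEval a) σ ≫ D.jA) (j r) m (by
      rw [← Scheme.Hom.comp_apply, ← ht₂, Scheme.Hom.comp_apply, Scheme.Hom.comp_apply, hm])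
  haveI : LocallyOfFinitePresentation σ := by
    haveI : LocallyOfFinitePresentation (σ ≫ D.affStr d) := by rw [hσ]; infer_instance
    exact LimDesc.lfp_of_comp σ (D.affStr d)
  refine ⟨_, pullback.fst (D.affEval a) σ ≫ D.jA, x, inferInstance, by rw [hx, hr], ?_⟩
  exact nearAt_etale_slice p (D.affStr d) s t hw₀ D.jA (D.affEval a) (D.affEval_str a) g σ hσ j t₂ ht₂ w₂ hψ x r
    hx.symm

end Groth.Agent.DMSlice

end
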