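import Groth.Agent.DMSlice.Atlas
import Groth.Agent.DMSlice.SliceEtale
import Groth.Agent.AlgStLib.LocQCalc

/-!
# Stacks with unramified diagonal have etale atlases
-/

set_option autoImplicit false
set_option backward.isDefEq.respectTransparency false
set_option backward.isDefEq.respectTransparency.types false
set_option linter.style.haveILetI false
universe u

noncomputable section

namespace Groth.Agent.DMSlice

open CategoryTheory CategoryTheory.Limits AlgebraicGeometry Groth.Agent.AlgSpLib Groth.Agent.StkBasic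
  Groth.Agent.FibCatRep Groth.Agent.FibCat2Misc Groth.Agent.AlgStLib
open _root_.AlgSp _root_.AlgSt

/-- being near a point transfers along open immersions -/
theorem nearAt_of_openImm {P : MorphismProperty Scheme.{u}} [P.RespectsIso] {X Y Z : Scheme.{u}} (k : X ⟶ Y)
    [IsOpenImmersion k] (h : Y ⟶ Z) {x : X} (hx : NearAt P (k ≫ h) x) : NearAt P h (k x) := by
  obtain ⟨W, hxW, hW⟩ := hx
  refine ⟨(W.ι ≫ k).opensRange, ⟨⟨x, hxW⟩, by rw [Scheme.Hom.comp_apply, Scheme.Opens.ι_apply]⟩, ?_⟩
  rw [show (W.ι ≫ k).opensRange.ι = (W.ι ≫ k).isoOpensRange.inv ≫ W.ι ≫ k by simp]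
  simp only [Category.assoc]
  exact (P.cancel_left_of_respectsIso (W.ι ≫ k).isoOpensRange.inv _).2 hW

/-- slices at all points glue to a slice -/
theorem exists_slice_total {S : Scheme.{u}} {U R₀ : Scheme.{u}} (p : U ⟶ S) (s t : R₀ ⟶ U) [Smooth s]
    (hw₀ : t ≫ p = s ≫ p) (hst : FormallyUnramified (pullback.lift t s hw₀))
    (hs : Function.Surjective s) :
    ∃ (M : Scheme.{u}) (π : M ⟶ U), LocallyOfFinitePresentation π ∧
      ∀ v : U, ∃ x : ↑(pullback t π), s (pullback.fst t π x) = v ∧ NearAt @Etale (pullback.fst t π ≫ s) x := by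
  choose r hr using hs
  choose M π x hπ hx hnear using fun v : U => exists_slice_etale (p := p) (s := s) (t := t) hw₀ hst (r v)
  refine ⟨∐ M, Sigma.desc π, IsZariskiLocalAtSource.sigmaDesc hπ, fun v => ?_⟩
  let k : pullback t (π v) ⟶ pullback t (Sigma.desc π) :=
    pullback.map t (π v) t (Sigma.desc π) (𝟙 _) (Sigma.ι M v) (𝟙 _) (by simp) (by simp)
  have sqk : IsPullback k (pullback.snd t (π v)) (pullback.snd t (Sigma.desc π)) (Sigma.ι M v) := by
    refine IsPullback.of_right ?_ (pullback.lift_snd _ _ _) (IsPullback.of_hasPullback t (Sigma.desc π))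
    rw [show k ≫ pullback.fst t (Sigma.desc π) = pullback.fst t (π v) by simp [k, pullback.map], Sigma.ι_desc]
    exact IsPullback.of_hasPullback t (π v)
  haveI : IsOpenImmersion k := MorphismProperty.of_isPullback sqk.flip inferInstance
  have hk : k ≫ pullback.fst t (Sigma.desc π) = pullback.fst t (π v) := by simp [k, pullback.map]
  refine ⟨k (x v), ?_, nearAt_of_openImm k _ ?_⟩
  · rw [← Scheme.Hom.comp_apply k, hk, hx, hr]
  · rw [reassoc_of% hk]
    exact hnear v

variable {S : Scheme.{u}} {𝒳 : AlgSt.Cat S}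

set_option maxHeartbeats 1000000 in
/-- a stack with representable unramified diagonal and a smooth atlas has an etale atlas -/
theorem hasAtlas_etale (hS : FibCat.IsFibGrpd 𝒳.p) (hd : RepByAlgSp1 (FibCat.diag (FibCat.toSelf 𝒳)))
    (hdm : AlgSt.IsDMOver 𝒳) {U : Over S} (y : AlgSt.ofSp (spOf U).obj ⥤ᵇ 𝒳)
    (hy : RepByAlgSpWith (LocP @Smooth) y) (hys : RepByAlgSpWith AlgSp.IsSurjectiveMor y) :
    AlgSt.HasAtlas AlgSp.IsEtaleMor 𝒳 := by
  have hcP := cls_locP (S := S) etST_etale (isLocalOnBase_locP etST_etale)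
  have hcU := cls_locP (S := S) etST_unramified (isLocalOnBase_locP etST_unramified)
  have H : LocusHyp (LocP @Etale) (LocP @LocallyOfFinitePresentation) (LocP (S := S) @Smooth) :=
    locusHyp etST_etale hcP cls_lfp schDesc_etale
  obtain ⟨D⟩ := exists_atlasRel hS U y hy hys
  obtain ⟨w, -, hlift⟩ := exists_chart_pairing hcU hdm D.R D.hce D.hs D.ht
  have hst : FormallyUnramified (pullback.lift D.t.left D.s.left w) := by
    rw [show pullback.lift D.t.left D.s.left w =
      pullback.lift D.s.left D.t.left w.symm ≫ (pullbackSymmetry D.U.hom D.U.hom).hom by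
        apply pullback.hom_ext <;> simp]
    exact MorphismProperty.comp_mem @FormallyUnramified _ _ hlift
      (inferInstanceAs (FormallyUnramified (pullbackSymmetry D.U.hom D.U.hom).hom))
  haveI := D.smooth
  obtain ⟨M₀, π₀, hπ, hpts⟩ := exists_slice_total D.U.hom D.s.left D.t.left w hst (D.s_surjective hS)
  let M : Over S := Over.mk (π₀ ≫ D.U.hom)
  let π : M ⟶ D.U := Over.homMk π₀ rfl
  have hG : RepByAlgSpWith (LocP @LocallyOfFinitePresentation) (chartComp π D.y) :=
    repWith_chartComp etST_lfp cls_lfp hS π hπ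
      (AlgStLib.repWith_mono D.hy fun _ _ a _ ha => locP_mono (fun _ _ r hr => by haveI : Smooth r := hr; infer_instance) a ha)
  obtain ⟨V, hV, hmem⟩ := D.exists_chart_of_slice hS hd etST_etale hcP H π hG
  refine hasAtlas_of_point (U := openPart M V) (x := chartComp (openPartIncl M V ≫ π) D.y) ?_ ?_
  · exact AlgStLib.repWith_mono hV fun _ U' _ _ ha => (isEtaleMor_iff_locP (IsAlgSpace.yon_obj U')).2 ha
  · refine repWith_surjective_of_isSurjective (isFibGrpd_ofSpace _) hS
      (repByAlgSp1_point hS hd (isAlgSpaceP_yon _) _) fun p => ?_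
    obtain ⟨v, rfl⟩ := D.pt_surjective hS p
    obtain ⟨x, hx, hnear⟩ := hpts v
    refine ⟨stPts (spOf (openPart M V)).obj (AlgSp.Points.ofScheme _ ⟨_, hmem x hnear⟩), ?_⟩
    show AlgSt.Points.map (BasedFunctor.comp (Stk.ofPshMap _) D.y) _ = _
    rw [map_comp_points]
    show AlgSt.Points.map D.y (AlgSt.Points.map (AlgSt.ofSpMap ((yon S).map (openPartIncl M V ≫ π))) _) = _
    rw [map_stPts, map_ofScheme]
    refine Eq.trans ?_ ((D.pt_t (pullback.fst D.t.left π₀ x)).trans (congrArg D.pt hx))
    refine congrArg D.pt ?_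
    show π₀ (pullback.snd D.t.left π₀ x) = D.t.left (pullback.fst D.t.left π₀ x)
    rw [← Scheme.Hom.comp_apply, ← pullback.condition, Scheme.Hom.comp_apply]

end Groth.Agent.DMSlice

end
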