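import Groth.Agent.DMSlice.RingQf
import Mathlib.AlgebraicGeometry.Morphisms.QuasiFinite
import Mathlib.AlgebraicGeometry.Morphisms.FormallyUnramified
import Mathlib.AlgebraicGeometry.Morphisms.Smooth

/-!
# Affine data in a fibre of a pair of maps with a property
-/

set_option autoImplicit false
set_option backward.isDefEq.respectTransparency false
set_option backward.isDefEq.respectTransparency.types false
set_option linter.style.haveILetI false
universe u

open CategoryTheory CategoryTheory.Limits AlgebraicGeometry TensorProduct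

noncomputable section

namespace Groth.Agent.DMSlice

/-- algebraicity over the images of a quasi-finite algebra over a tensor product -/
theorem isAlgebraic_of_quasiFinite {C A K B : Type u} [CommRing C] [CommRing A] [Field K] [CommRing B]
    [Algebra C A] [Algebra C K] [Algebra K B] (φ : A →+* B) (β : A ⊗[C] K →+* B)
    (hA : ∀ a, β (a ⊗ₜ 1) = φ a) (hK : ∀ k, β (1 ⊗ₜ k) = algebraMap K B k) (hβ : β.QuasiFinite)
    (q : Ideal B) [q.IsPrime] :
    Algebra.IsAlgebraic (Algebra.adjoin K (Set.range ((Ideal.Quotient.mk q).comp φ))) (B ⧸ q) := by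
  let T := Algebra.adjoin K (Set.range ((Ideal.Quotient.mk q).comp φ))
  letI := β.toAlgebra
  haveI : Algebra.QuasiFinite (A ⊗[C] K) B := hβ
  have hmem : ∀ z, ((Ideal.Quotient.mk q).comp β) z ∈ T := fun z => by
    induction z with
    | zero => rw [map_zero]; exact zero_mem _
    | add x y hx hy => rw [map_add]; exact add_mem hx hy
    | tmul a k =>
      rw [show a ⊗ₜ[C] k = (a ⊗ₜ 1) * (1 ⊗ₜ k) by simp, map_mul, RingHom.comp_apply, RingHom.comp_apply, hA, hK]
      exact mul_mem (Algebra.subset_adjoin ⟨a, rfl⟩) (T.algebraMap_mem k)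
  letI : Algebra (A ⊗[C] K) T := (((Ideal.Quotient.mk q).comp β).codRestrict T hmem).toAlgebra
  haveI : IsScalarTower (A ⊗[C] K) T (B ⧸ q) := IsScalarTower.of_algebraMap_eq fun z => rfl
  haveI : Algebra.QuasiFinite T (B ⧸ q) := Algebra.QuasiFinite.of_restrictScalars (A ⊗[C] K) T (B ⧸ q)
  haveI : IsDomain T := inferInstance
  let L := FractionRing (B ⧸ q)
  let F := (⊥ : Ideal T).ResidueField
  haveI : IsFractionRing T F := inferInstance
  have hinj : Function.Injective (algebraMap T L) := by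
    rw [IsScalarTower.algebraMap_eq T (B ⧸ q) L]
    exact (IsFractionRing.injective (B ⧸ q) L).comp Subtype.val_injective
  letI : Algebra F L := (IsFractionRing.lift hinj).toAlgebra
  haveI : IsScalarTower T F L := IsScalarTower.of_algebraMap_eq fun z => (IsFractionRing.lift_algebraMap hinj z).symm
  refine ⟨fun d => ?_⟩
  let ev : F ⊗[T] (B ⧸ q) →ₐ[F] L :=
    Algebra.TensorProduct.lift (Algebra.ofId F L) (IsScalarTower.toAlgHom T (B ⧸ q) L) fun _ _ => .all _ _
  haveI : Module.Finite F (F ⊗[T] (B ⧸ q)) := Algebra.QuasiFinite.finite_fiber (⊥ : Ideal T)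
  have h1 : IsIntegral F (ev (1 ⊗ₜ d)) := (IsIntegral.of_finite F _).map ev
  have h2 : ev (1 ⊗ₜ d) = algebraMap (B ⧸ q) L d := by simp [ev]
  rw [h2] at h1
  exact (isAlgebraic_algebraMap_iff (IsFractionRing.injective (B ⧸ q) L)).1
    ((IsFractionRing.isAlgebraic_iff T F L).2 h1.isAlgebraic)

/-- the properties for which the affine data is extracted -/
structure Cancels (Q : MorphismProperty Scheme.{u}) : Prop where
  comp : ∀ ⦃X Y Z : Scheme.{u}⦄ (f : X ⟶ Y) (g : Y ⟶ Z), Q f → Q g → Q (f ≫ g)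
  open_imm : ∀ ⦃X Y : Scheme.{u}⦄ (f : X ⟶ Y) [IsOpenImmersion f], Q f
  fibre : ∀ ⦃X Y : Scheme.{u}⦄ (f : X ⟶ Y) (y : Y), Q (f.fiberι y)
  of_comp : ∀ ⦃X Y Z : Scheme.{u}⦄ (f : X ⟶ Y) (g : Y ⟶ Z), Q (f ≫ g) → Q f

theorem cancels_lqf : Cancels.{u} @LocallyQuasiFinite :=
  ⟨fun _ _ _ f g hf hg => MorphismProperty.comp_mem _ f g hf hg, fun _ _ f _ => inferInstance,
    fun _ _ f y => inferInstance, fun _ _ _ f g h => @LocallyQuasiFinite.of_comp _ _ _ f g h⟩

theorem cancels_unramified : Cancels.{u} @FormallyUnramified :=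
  ⟨fun _ _ _ f g hf hg => MorphismProperty.comp_mem _ f g hf hg, fun _ _ f _ => inferInstance,
    fun _ _ f y => by
      haveI : Mono (f.fiberι y) := by dsimp [Scheme.Hom.fiberι]; infer_instance
      infer_instance,
    fun _ _ _ f g h => @FormallyUnramified.of_comp _ _ _ f g h⟩

/-- affine data around a point of a fibre of the first map -/
structure FibData {R₀ U S : Scheme.{u}} (p : U ⟶ S) (s t : R₀ ⟶ U) (v : U) where
  C : CommRingCat.{u}
  A : CommRingCat.{u}
  B : CommRingCat.{u}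
  jC : Spec C ⟶ S
  jA : Spec A ⟶ U
  jB : Spec B ⟶ s.fiber v
  hC : IsOpenImmersion jC
  hA : IsOpenImmersion jA
  hB : IsOpenImmersion jB
  κC : C ⟶ A
  hκC : jA ≫ p = Spec.map κC ≫ jC
  cK : C ⟶ U.residueField v
  hcK : U.fromSpecResidueField v ≫ p = Spec.map cK ≫ jC
  φ : A ⟶ B
  hφ : jB ≫ s.fiberι v ≫ t = Spec.map φ ≫ jA
  kB : U.residueField v ⟶ B
  hkB : jB ≫ s.fiberToSpecResidueField v = Spec.map kB
  hw : κC ≫ φ = cK ≫ kB
  nonempty : Nontrivial B

namespace FibData

variable {R₀ U S : Scheme.{u}} {p : U ⟶ S} {s t : R₀ ⟶ U} {v : U}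

/-- the map from the tensor product -/
def β (D : FibData p s t v) :
    letI := D.κC.hom.toAlgebra
    letI := D.cK.hom.toAlgebra
    D.A ⊗[D.C] U.residueField v →+* D.B :=
  letI := D.κC.hom.toAlgebra
  letI := D.cK.hom.toAlgebra
  letI := (D.κC ≫ D.φ).hom.toAlgebra
  (Algebra.TensorProduct.lift (R := D.C) (S := D.C) (A := D.A) (B := U.residueField v) (C := D.B)
    { D.φ.hom with commutes' := fun _ => rfl }
    { D.kB.hom with commutes' := fun c => (congrArg (fun k => k.hom c) D.hw).symm }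
    fun _ _ => .all _ _).toRingHom

theorem β_left (D : FibData p s t v) (a : D.A) :
    letI := D.κC.hom.toAlgebra
    letI := D.cK.hom.toAlgebra
    D.β (a ⊗ₜ[D.C] (1 : U.residueField v)) = D.φ.hom a := by
  simp [β]

theorem β_right (D : FibData p s t v) (k : U.residueField v) :
    letI := D.κC.hom.toAlgebra
    letI := D.cK.hom.toAlgebra
    D.β ((1 : D.A) ⊗ₜ[D.C] k) = D.kB.hom k := by
  simp [β]

/-- the pair of maps has the property on the affine piece -/
theorem prop_β (D : FibData p s t v) {Q : MorphismProperty Scheme.{u}} (hQ : Cancels Q)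
    (hw₀ : t ≫ p = s ≫ p) (hst : Q (pullback.lift t s hw₀)) : Q (Spec.map (CommRingCat.ofHom D.β)) := by
  letI := D.κC.hom.toAlgebra
  letI := D.cK.hom.toAlgebra
  let eι := pullbackSpecIso D.C D.A (U.residueField v)
  let m : pullback (Spec.map (CommRingCat.ofHom (algebraMap D.C D.A)))
      (Spec.map (CommRingCat.ofHom (algebraMap D.C (U.residueField v)))) ⟶ pullback p p :=
    pullback.map _ _ _ _ D.jA (U.fromSpecResidueField v) D.jC D.hκC.symm D.hcK.symm
  have e : Spec.map (CommRingCat.ofHom D.β) ≫ eι.inv ≫ m = D.jB ≫ s.fiberι v ≫ pullback.lift t s hw₀ := by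
    apply pullback.hom_ext
    · simp only [m, pullback.map, Category.assoc, pullback.lift_fst]
      rw [pullbackSpecIso_inv_fst_assoc, ← Spec.map_comp_assoc, D.hφ]
      congr 2
      ext a
      exact D.β_left a
    · simp only [m, pullback.map, Category.assoc, pullback.lift_snd]
      rw [pullbackSpecIso_inv_snd_assoc, ← Spec.map_comp_assoc]
      have h1 : D.jB ≫ s.fiberι v ≫ s = Spec.map D.kB ≫ U.fromSpecResidueField v := by
        rw [← D.hkB, Category.assoc]
        exact congrArg (D.jB ≫ ·) pullback.condition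
      rw [h1]
      congr 2
      ext k
      exact D.β_right k
  haveI := D.hB
  refine hQ.of_comp _ (eι.inv ≫ m) ?_
  rw [e]
  exact hQ.comp _ _ (hQ.open_imm D.jB) (hQ.comp _ _ (hQ.fibre s v) hst)

end FibData

/-- affine data exists around every point of the fibre -/
theorem exists_fibData {R₀ U S : Scheme.{u}} (p : U ⟶ S) (s t : R₀ ⟶ U) (hw₀ : t ≫ p = s ≫ p) (r : R₀) :
    Nonempty (FibData p s t (s r)) := by
  let v := s r
  obtain ⟨S0, hS0, hrS, -⟩ := exists_isAffineOpen_mem_and_subset (X := S) (x := p (t r)) (U := ⊤) trivial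
  obtain ⟨U1, hU1, hrU, hU1S⟩ := exists_isAffineOpen_mem_and_subset (X := U) (x := t r) (U := p ⁻¹ᵁ S0) hrS
  let ι := s.fiberι v
  obtain ⟨WB, hWB, hrW, hWU⟩ := exists_isAffineOpen_mem_and_subset (X := s.fiber v) (x := s.asFiber r)
    (U := (ι ≫ t) ⁻¹ᵁ U1) (by
      show (ι ≫ t) (s.asFiber r) ∈ U1
      rw [Scheme.Hom.comp_apply]
      erw [Scheme.Hom.fiberι_asFiber]
      exact hrU)
  let jC := hS0.fromSpec
  let jA := hU1.fromSpec
  let jB := hWB.fromSpec
  haveI : IsOpenImmersion jC := inferInstanceAs (IsOpenImmersion hS0.fromSpec)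
  have hrange : Set.range (U.fromSpecResidueField v ≫ p) ⊆ Set.range jC := by
    rintro _ ⟨z, rfl⟩
    rw [hS0.range_fromSpec, Scheme.Hom.comp_apply, Scheme.fromSpecResidueField_apply]
    show p (s r) ∈ S0
    rw [← Scheme.Hom.comp_apply, ← hw₀, Scheme.Hom.comp_apply]
    exact hrS
  let cK := Spec.preimage (IsOpenImmersion.lift jC (U.fromSpecResidueField v ≫ p) hrange)
  have hcK : U.fromSpecResidueField v ≫ p = Spec.map cK ≫ jC := by
    simp [cK]
  let κC := p.appLE S0 U1 hU1S
  have hκC : jA ≫ p = Spec.map κC ≫ jC := (hS0.SpecMap_appLE_fromSpec p hU1 hU1S).symm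
  let φ := (ι ≫ t).appLE U1 WB hWU
  have hφ : jB ≫ ι ≫ t = Spec.map φ ≫ jA := (hU1.SpecMap_appLE_fromSpec (ι ≫ t) hWB hWU).symm
  let kB := Spec.preimage (jB ≫ s.fiberToSpecResidueField v)
  have hkB : jB ≫ s.fiberToSpecResidueField v = Spec.map kB := (Spec.map_preimage _).symm
  refine ⟨⟨_, _, _, jC, jA, jB, inferInstance, inferInstanceAs (IsOpenImmersion hU1.fromSpec),
    inferInstanceAs (IsOpenImmersion hWB.fromSpec), κC, hκC, cK, hcK, φ, hφ, kB, hkB, ?_, ?_⟩⟩
  · refine Spec.map_injective ((cancel_mono jC).1 ?_)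
    rw [Spec.map_comp, Spec.map_comp, Category.assoc, Category.assoc, ← hκC, ← hcK, ← reassoc_of% hφ, ← hkB,
      Category.assoc, hw₀]
    have hc : ι ≫ s = s.fiberToSpecResidueField v ≫ U.fromSpecResidueField v := pullback.condition
    rw [reassoc_of% hc]
  · haveI : Nonempty WB := ⟨⟨_, hrW⟩⟩
    haveI : Nonempty (Spec Γ(s.fiber v, WB)) := ⟨hWB.primeIdealOf ⟨_, hrW⟩⟩
    exact PrimeSpectrum.nonempty_iff_nontrivial.1 ‹Nonempty (Spec Γ(s.fiber v, WB))›

end Groth.Agent.DMSlice

end
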