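import Groth.Agent.DMSlice.Pairing
import Groth.Agent.AlgStLib.Points
import Groth.Agent.AlgStLib.LocQClasses
import Groth.Agent.AlgStLib.UnivTop

/-!
# The relation of a smooth atlas with a chart, and sliced charts through a point
-/

set_option autoImplicit false
set_option backward.isDefEq.respectTransparency false
set_option backward.isDefEq.respectTransparency.types false
set_option linter.style.haveILetI false
universe u

noncomputable section

namespace Groth.Agent.DMSlice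

open CategoryTheory CategoryTheory.Limits AlgebraicGeometry Groth.Agent.AlgSpLib Groth.Agent.StkBasic
  Groth.Agent.FibCatRep Groth.Agent.FibCat2Misc Groth.Agent.AlgStLib
open _root_.AlgSp _root_.AlgSt

variable {S : Scheme.{u}} {𝒳 : AlgSt.Cat S}

/-- an atlas together with a chart of its relation -/
structure AtlasRel (𝒳 : AlgSt.Cat S) where
  U : Over S
  y : AlgSt.ofSp (spOf U).obj ⥤ᵇ 𝒳
  hy : RepByAlgSpWith (LocP @Smooth) y
  hys : RepByAlgSpWith AlgSp.IsSurjectiveMor y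
  R : Mdl y y
  R₀ : Over S
  c : (yon S).obj R₀ ⟶ R.A.obj
  hce : AlgSp.RepWith @Etale c
  hcs : AlgSp.RepWith @Surjective c
  s : R₀ ⟶ U
  t : R₀ ⟶ U
  hs : (yon S).map s = c ≫ R.a.hom
  ht : (yon S).map t = c ≫ (toSrc R).hom
  smooth : Smooth s.left

theorem exists_atlasRel (hS : FibCat.IsFibGrpd 𝒳.p) (U : Over S) (y : AlgSt.ofSp (spOf U).obj ⥤ᵇ 𝒳)
    (hy : RepByAlgSpWith (LocP @Smooth) y) (hys : RepByAlgSpWith AlgSp.IsSurjectiveMor y) :
    Nonempty (AtlasRel 𝒳) := by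
  obtain ⟨A, a, e, he, ha, hsm⟩ := exists_model_space cls_smooth.bc cls_smooth.loc (isFibGrpd_ofSpace _) hS hy _ y
  let R : Mdl y y := ⟨A, a, e, he, ha⟩
  obtain ⟨R₀, c, hce, hcs⟩ := A.property.atlas
  obtain ⟨s, hs⟩ := exists_map_eq (c ≫ R.a.hom)
  obtain ⟨t, ht⟩ := exists_map_eq (c ≫ (toSrc R).hom)
  exact ⟨⟨U, y, hy, hys, R, R₀, c, hce, hcs, s, t, hs, ht,
    hsm c (𝟙 _) s hce (AlgSp.repWith_id _ _) (by rw [Category.comp_id, hs])⟩⟩

variable (D : AtlasRel 𝒳)

/-- the image in the stack of a point of the atlas -/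
def AtlasRel.pt (u : D.U.left) : AlgSt.Points 𝒳 :=
  AlgSt.Points.map D.y (stPts (spOf D.U).obj (AlgSp.Points.ofScheme D.U u))

theorem AtlasRel.pt_surjective (hS : FibCat.IsFibGrpd 𝒳.p) : Function.Surjective D.pt := fun x => by
  obtain ⟨p, rfl⟩ := isSurjective_of_repWith (isFibGrpd_ofSpace _) hS D.hys x
  obtain ⟨q, rfl⟩ := (bijective_stPts (spOf D.U).obj).2 p
  obtain ⟨u, rfl⟩ := (AlgSp.Points.schemeEquiv D.U).surjective q
  exact ⟨u, rfl⟩

theorem AtlasRel.pts_fst (x : AlgSp.Points D.R.A.obj) :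
    AlgSt.Points.map (FibCat.fpFst D.y D.y) (D.R.pts x) = stPts _ (AlgSp.Points.map D.R.a.hom x) := by
  rw [Mdl.pts, ← map_comp_points, map_eq_stPts]
  congr 2
  exact ObjectProperty.hom_ext _ D.R.pr.symm

theorem AtlasRel.stPts_s (r : D.R₀.left) :
    stPts _ (AlgSp.Points.ofScheme D.U (D.s.left r)) =
      AlgSt.Points.map (FibCat.fpFst D.y D.y) (D.R.pts (AlgSp.Points.ofPt D.c r)) := by
  rw [D.pts_fst, AlgSp.Points.map_ofPt, ← D.hs, AlgSpLib.ofScheme_map]

theorem AtlasRel.stPts_t (r : D.R₀.left) :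
    stPts _ (AlgSp.Points.ofScheme D.U (D.t.left r)) =
      AlgSt.Points.map (FibCat.fpSnd D.y D.y) (D.R.pts (AlgSp.Points.ofPt D.c r)) := by
  rw [pts_fpSnd, AlgSp.Points.map_ofPt, ← D.ht, AlgSpLib.ofScheme_map]

theorem AtlasRel.pt_t (r : D.R₀.left) : D.pt (D.t.left r) = D.pt (D.s.left r) := by
  rw [AtlasRel.pt, AtlasRel.pt, D.stPts_s, D.stPts_t, ← map_comp_points, ← map_comp_points]
  exact (map_congr_points (FibCat.fpIso D.y D.y) _).symm

theorem AtlasRel.s_surjective (hS : FibCat.IsFibGrpd 𝒳.p) : Function.Surjective D.s.left := fun u => by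
  obtain ⟨w, hw, -⟩ := exists_points_fp (isFibGrpd_ofSpace _) hS (isFibGrpd_ofSpace _) D.y D.y
    (stPts _ (AlgSp.Points.ofScheme D.U u)) (stPts _ (AlgSp.Points.ofScheme D.U u)) rfl
  obtain ⟨a, rfl⟩ := D.R.bijective_pts.2 w
  obtain ⟨r, rfl⟩ := ofPt_surjective D.hcs a
  refine ⟨r, (AlgSp.Points.schemeEquiv D.U).injective ?_⟩
  exact (bijective_stPts _).1 ((D.stPts_s r).trans hw)

variable {P Qs : MorphismProperty Scheme.{u}}

set_option maxHeartbeats 1000000 in
/-- a slice of the atlas near whose point the relation has a property gives a chart with the property -/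
theorem AtlasRel.exists_chart_of_slice (h : FibCat.IsFibGrpd 𝒳.p)
    (hd : RepByAlgSp1 (FibCat.diag (FibCat.toSelf 𝒳))) (hP : EtST P) [IsZariskiLocalAtSource P]
    (hcP : Cls (LocP (S := S) P)) (H : LocusHyp (LocP P) (LocP Qs) (LocP (S := S) @Smooth))
    {M : Over S} (π : M ⟶ D.U) (hG : RepByAlgSpWith (LocP Qs) (chartComp π D.y)) :
    ∃ V : M.left.Opens, RepByAlgSpWith (LocP P) (chartComp (openPartIncl M V ≫ π) D.y) ∧
      ∀ x : ↑(pullback D.t.left π.left), NearAt P (pullback.fst D.t.left π.left ≫ D.s.left) x →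
        pullback.snd D.t.left π.left x ∈ V := by
  obtain ⟨V, hV, hmem⟩ := exists_open_of_near h hd hP hcP H D.hy D.hys π hG D.R
  refine ⟨V, hV, fun x hx => ?_⟩
  have sqB := IsPullback.of_hasPullback (toSrc D.R).hom ((yon S).map π)
  let B : AlgSp.Space S := ⟨_, isAlgSpace_of_isPullback_space (IsAlgSpace.yon_obj D.U) D.R.A.property
    (IsAlgSpace.yon_obj M) sqB⟩
  let fB : B ⟶ D.R.A := ObjectProperty.homMk (pullback.fst _ _)
  let sB : B ⟶ spOf M := ObjectProperty.homMk (pullback.snd _ _)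
  let W : Over S := Over.mk (pullback.fst D.t.left π.left ≫ D.R₀.hom)
  let w₁ : W ⟶ D.R₀ := Over.homMk (pullback.fst D.t.left π.left) rfl
  let w₂ : W ⟶ M := Over.homMk (pullback.snd D.t.left π.left) (by
    show pullback.snd D.t.left π.left ≫ M.hom = pullback.fst D.t.left π.left ≫ D.R₀.hom
    rw [← Over.w π, ← Over.w D.t, pullback.condition_assoc])
  have sqW : IsPullback ((yon S).map w₁) ((yon S).map w₂) (D.c ≫ (toSrc D.R).hom) ((yon S).map π) := by
    rw [← D.ht, isPullback_yon_iff]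
    exact IsPullback.of_hasPullback D.t.left π.left
  let cW : (yon S).obj W ⟶ B.obj := sqB.lift ((yon S).map w₁ ≫ D.c) ((yon S).map w₂)
    (by rw [Category.assoc]; exact sqW.w)
  have sqc : IsPullback ((yon S).map w₁) cW D.c fB.hom := by
    refine IsPullback.of_bot ?_ (sqB.lift_fst _ _ _).symm sqB
    rw [show cW ≫ pullback.snd (toSrc D.R).hom ((yon S).map π) = (yon S).map w₂ from sqB.lift_snd _ _ _]
    exact sqW
  refine hmem (B := B) (fst := fB) (snd := sB) sqB (AlgSp.Points.ofPt cW x) _ ?_ ?_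
  · refine ⟨W, D.U, cW, 𝟙 _, w₁ ≫ D.s, x, repWith_baseChange sqc D.hce, AlgSp.repWith_id _ _, ?_, rfl, hx⟩
    show cW ≫ fB.hom ≫ D.R.a.hom = (yon S).map (w₁ ≫ D.s) ≫ 𝟙 _
    rw [Category.comp_id, Functor.map_comp, D.hs, ← Category.assoc, ← sqc.w, Category.assoc]
  · show AlgSp.Points.map sB.hom (AlgSp.Points.ofPt cW x) = _
    rw [AlgSp.Points.map_ofPt, show cW ≫ sB.hom = (yon S).map w₂ from sqB.lift_snd _ _ _, AlgSpLib.ofScheme_map]
    rfl

theorem repWith_chartComp {Q : MorphismProperty Scheme.{u}} (hQ : EtST Q) (hcQ : Cls (LocP (S := S) Q))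
    (hS : FibCat.IsFibGrpd 𝒳.p) {U M : Over S} {y : AlgSt.ofSp (spOf U).obj ⥤ᵇ 𝒳} (π : M ⟶ U) (hπ : Q π.left)
    (hy : RepByAlgSpWith (LocP Q) y) : RepByAlgSpWith (LocP Q) (chartComp π y) :=
  repWith_comp (isFibGrpd_ofSpace _) (isFibGrpd_ofSpace _) hcQ.bc hcQ.comp hcQ.loc
    (repWith_ofSpMap hcQ.bc (ObjectProperty.homMk ((yon S).map π) : spOf M ⟶ spOf U) (locP_yon_map hQ π hπ)) hy

end Groth.Agent.DMSlice

end
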