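import Groth.Agent.AlgStLib.LargestSub
import Groth.Agent.AlgSpLib.LocPAtOpen
import Groth.Agent.FibreFlat.LocusSp

/-!
# The open subspace of points near which a morphism has a property, and its behaviour under smooth base change
-/

set_option autoImplicit false
set_option backward.isDefEq.respectTransparency false
set_option linter.style.haveILetI false
universe u

noncomputable section

namespace Groth.Agent.DMSlice

open CategoryTheory CategoryTheory.Limits AlgebraicGeometry Groth.Agent.AlgSpLib Groth.Agent.SchImg Groth.Agent.AlgStLib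
open _root_.AlgSp

variable {S : Scheme.{u}} {P Qs : MorphismProperty Scheme.{u}}

/-- the property on schemes holds near a point -/
abbrev NearAt (P : MorphismProperty Scheme.{u}) {U V : Scheme.{u}} (h : U ⟶ V) (u : U) : Prop :=
  ∃ W : U.Opens, u ∈ W ∧ P (W.ι ≫ h)

/-- the property holds near a point of an algebraic space -/
abbrev Near (P : MorphismProperty Scheme.{u}) {X Y : Sp S} (f : X ⟶ Y) (x : Points X) : Prop :=
  HasAtMor (fun _ _ h u => NearAt P h u) f x

/-- the property near a point descends along smooth base change -/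
def SchDesc (P Qs : MorphismProperty Scheme.{u}) : Prop :=
  ∀ ⦃U V V' : Scheme.{u}⦄ (h : U ⟶ V) (k : V' ⟶ V), Qs h → Smooth k → ∀ x : ↑(pullback h k),
    NearAt P (pullback.snd h k) x → NearAt P h (pullback.fst h k x)

variable (hP : EtST P) [IsZariskiLocalAtSource P]

theorem etale_of_openImm {X Y : Sp S} {j : X ⟶ Y} (hj : RepWith @IsOpenImmersion j) : RepWith @Etale j :=
  AlgSpLib.repWith_mono (fun _ _ g hg => by
    have : IsOpenImmersion g := hg
    exact (inferInstance : Etale g)) hj

include hP in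
/-- an open subspace on which the property holds consists of points near which it holds -/
theorem near_of_openImm {X Y X' : Sp S} (hX : IsAlgSpace X) (hY : IsAlgSpace Y) (hX' : IsAlgSpace X') (f : X ⟶ Y)
    {j : X' ⟶ X} (hj : RepWith @IsOpenImmersion j) (h : LocP P (j ≫ f)) (x : Points X')
    : Near P f (Points.map j x) :=
  (hasAtMor_iff_exists_open hP hX hY f _).2 ⟨X', hX', j, hj, ⟨x, rfl⟩, h⟩

/-- the points near which the property holds -/
def locus (P : MorphismProperty Scheme.{u}) {X Y : Sp S} (f : X ⟶ Y) : Set (Points X) := {x | Near P f x}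

include hP in
theorem isOpen_locus {X Y : Sp S} (hX : IsAlgSpace X) (hY : IsAlgSpace Y) (f : X ⟶ Y) : IsOpen (locus P f) := by
  refine isOpen_iff_forall_mem_open.2 fun x hx => ?_
  obtain ⟨X', hX', j, hj, hxj, h⟩ := (hasAtMor_iff_exists_open hP hX hY f x).1 hx
  refine ⟨Set.range (Points.map j), ?_, AlgStLib.isOpen_range_of_openImm (X := ⟨X, hX⟩) (W := ⟨X', hX'⟩)
    (ObjectProperty.homMk j) hj, hxj⟩
  rintro _ ⟨y, rfl⟩
  exact near_of_openImm hP hX hY hX' f hj h y

include hP in
theorem locP_locus {X Y : Sp S} (hX : IsAlgSpace X) (hY : IsAlgSpace Y) (f : X ⟶ Y) :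
    LocP P (subInc (locus P f) ≫ f) := by
  have hL := isOpen_locus hP hX hY f
  have hA := isAlgSpace_subSheaf hX hL
  refine (locP_iff_forall_hasAtMor hP hA hY _).2 fun x' => ?_
  obtain ⟨X', hX', j, hj, ⟨y, hy⟩, h⟩ := (hasAtMor_iff_exists_open hP hX hY f _).1 (map_subInc_mem x')
  obtain ⟨g, hg⟩ := exists_factor_subInc (W := locus P f) j fun z => near_of_openImm hP hX hY hX' f hj h z
  have sq : IsPullback (𝟙 X') g j (subInc (locus P f)) := by
    refine isPullback_of_points (by rw [Category.id_comp, hg]) fun T a b e => ⟨a, ⟨Category.comp_id _, ?_⟩,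
      fun z hz => (Category.comp_id z).symm.trans hz.1⟩
    rw [← cancel_mono (subInc (locus P f)), Category.assoc, hg, e]
  refine (hasAtMor_iff_exists_open hP hA hY _ _).2 ⟨X', hX', g, repWith_baseChange sq hj, ⟨y, ?_⟩, ?_⟩
  · refine injective_map_of_mono (i := subInc (locus P f)) ?_
    rw [← Points.map_comp, hg, hy]
  · rw [← Category.assoc, hg]
    exact h

/-- the open subspace of the locus -/
def locusSp {X Y : AlgSp.Space S} (hP : EtST P) [IsZariskiLocalAtSource P] (f : X ⟶ Y) : AlgSp.Space S :=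
  ⟨_, isAlgSpace_subSheaf X.property (isOpen_locus hP X.property Y.property f.hom)⟩

include hP in
theorem maxP_locus {X Y : AlgSp.Space S} (f : X ⟶ Y) :
    MaxP (LocP P) f (ObjectProperty.homMk (subInc (locus P f.hom)) : locusSp hP f ⟶ X) := by
  refine ⟨repWith_subInc (isOpen_locus hP X.property Y.property f.hom), locP_locus hP X.property Y.property f.hom,
    fun W₁ w₁ hw₁ h => ?_⟩
  obtain ⟨g, hg⟩ := exists_factor_subInc (W := locus P f.hom) w₁.hom fun z =>
    near_of_openImm hP X.property Y.property W₁.property f.hom hw₁ h z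
  exact ⟨ObjectProperty.homMk g, ObjectProperty.hom_ext _ hg⟩

include hP in
theorem range_eq_locus {X Y W : AlgSp.Space S} {f : X ⟶ Y} {w : W ⟶ X} (h : MaxP (LocP P) f w) :
    Set.range (Points.map w.hom) = locus P f.hom :=
  ((maxP_locus hP f).range_eq h).symm.trans (range_subInc _)

include hP in
/-- the property near a point descends along smooth base change of algebraic spaces -/
theorem near_of_baseChange (hd : SchDesc P Qs) {X Y X' Y' : Sp S} (hX : IsAlgSpace X) (hY : IsAlgSpace Y)
    (hX' : IsAlgSpace X') (hY' : IsAlgSpace Y') {f : X ⟶ Y} {g : Y' ⟶ Y} {f' : X' ⟶ Y'} {g' : X' ⟶ X}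
    (sq : IsPullback g' f' f g) (hQ : LocP Qs f) (hg : LocP @Smooth g) {x' : Points X'} (h : Near P f' x') :
    Near P f (Points.map g' x') := by
  obtain ⟨X₁, hX₁, j, hj, hxj, hP₁⟩ := (hasAtMor_iff_exists_open hP hX' hY' f' x').1 h
  obtain ⟨V, b, hbe, hbs⟩ := hY.atlas
  obtain ⟨U, a, α, hae, has, hα⟩ := exists_chart_lift hX hY f hbe hbs
  obtain ⟨V', p, hpe, hps⟩ := hY'.atlas
  obtain ⟨R, k, pr, sqR⟩ := exists_pullback hY.diag b (p ≫ g)
  let U'' : Over S := Over.mk (pullback.fst α.left k.left ≫ U.hom)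
  let u₁ : U'' ⟶ U := Over.homMk (pullback.fst α.left k.left) rfl
  let u₂ : U'' ⟶ R := Over.homMk (pullback.snd α.left k.left) (by
    show pullback.snd α.left k.left ≫ R.hom = pullback.fst α.left k.left ≫ U.hom
    rw [← Over.w k, ← pullback.condition_assoc, Over.w α])
  have sqU : IsPullback ((yon S).map u₁) ((yon S).map u₂) ((yon S).map α) ((yon S).map k) :=
    isPullback_yon_iff.2 (IsPullback.of_hasPullback α.left k.left)
  have sqV : IsPullback ((yon S).map u₁) ((yon S).map (u₂ ≫ pr)) (a ≫ f) (p ≫ g) := by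
    rw [hα, Functor.map_comp]
    exact sqU.paste_vert sqR
  let a'' := sq.lift ((yon S).map u₁ ≫ a) ((yon S).map (u₂ ≫ pr) ≫ p)
    (by rw [Category.assoc, sqV.w, Category.assoc])
  have ha'' : RepWith @Etale a'' := FibreFlat.chart_baseChange @Etale sq sqV hae hpe
  have hs'' : RepWith @Surjective a'' := FibreFlat.chart_baseChange @Surjective sq sqV has hps
  obtain ⟨u, hu⟩ := ofPt_surjective hs'' x'
  have hq : RepWith @Etale ((yon S).map pr ≫ p) := repWith_comp (repWith_baseChange sqR hbe) hpe
  have hk : Smooth k.left := hg ((yon S).map pr ≫ p) b k hq hbe (by rw [Category.assoc]; exact sqR.w.symm)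
  obtain ⟨O, fst, sqO⟩ := exists_open_pullback hj a''
  have huO : u ∈ O := (mem_open_iff sqO u).2 (hu ▸ hxj)
  let ι : Over.mk (O.ι ≫ U''.hom) ⟶ U'' := Over.homMk O.ι rfl
  have h₁ : P (ι ≫ u₂).left := hP₁ fst ((yon S).map pr ≫ p) (ι ≫ u₂) (repWith_baseChange sqO.flip ha'') hq (by
    rw [reassoc_of% sqO.w, sq.lift_snd, Functor.map_comp, Functor.map_comp, Category.assoc, Category.assoc])
  obtain ⟨W, hW, hPW⟩ := hd α.left k.left (hQ a b α hae hbe hα) hk u ⟨O, huO, h₁⟩
  refine ⟨U, V, a, b, α, u₁.left u, hae, hbe, hα, ?_, W, hW, hPW⟩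
  rw [← hu, Points.map_ofPt, sq.lift_fst, ofPt_comp]

include hP in
/-- the hypotheses for largest open substacks -/
theorem locusHyp (hcP : Cls (LocP (S := S) P)) (hcQ : Cls (LocP (S := S) Qs)) (hd : SchDesc P Qs) :
    LocusHyp (S := S) (LocP P) (LocP Qs) (LocP @Smooth) where
  hPb := hcP.bc
  hQb := hcQ.bc
  hRb := cls_smooth.bc
  hP := hcP.loc
  hQ := hcQ.loc
  hR := cls_smooth.loc
  sm _ _ _ h := h
  ex _ _ f _ := ⟨_, _, maxP_locus hP f⟩
  bc X Y X' Y' f g f' g' sq hQ hg W w hw W' w' k sqk := by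
    have hL := range_eq_locus hP hw
    have hm : ∀ {W X : AlgSp.Space S} (w : W ⟶ X), AlgSp.RepWith @IsOpenImmersion w.hom → Mono w.hom := fun w hw =>
      mono_of_repWith_immersion (AlgSpLib.repWith_mono (P := @IsOpenImmersion) (Q := @IsImmersion)
        (fun _ _ g hg => have : IsOpenImmersion g := hg; inferInstance) hw)
    have hw' : AlgSp.RepWith @IsOpenImmersion w'.hom := repWith_baseChange sqk hw.1
    refine ⟨hw', hcP.bc W.property Y.property W'.property Y'.property (w ≫ f).hom g.hom (w' ≫ f').hom k.hom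
      (sqk.paste_vert sq) hw.2.1, fun W₁ w₁ hw₁ h => ?_⟩
    obtain ⟨l, hl⟩ := (exists_factor_iff W'.property X'.property w'.hom hw' w₁.hom).2 (by
      rintro _ ⟨z, rfl⟩
      obtain ⟨y, hy⟩ : Points.map g'.hom (Points.map w₁.hom z) ∈ Set.range (Points.map w.hom) :=
        hL.ge (near_of_baseChange hP hd X.property Y.property X'.property Y'.property sq hQ hg
          (near_of_openImm hP X'.property Y'.property W₁.property f'.hom hw₁ h z))
      obtain ⟨r, -, hr⟩ := exists_point_of_isPullback sqk y (Points.map w₁.hom z) hy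
      exact ⟨r, hr⟩)
    exact ⟨ObjectProperty.homMk l, ObjectProperty.hom_ext _ hl⟩

end Groth.Agent.DMSlice

end
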