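import Groth.Agent.FieldPow.Etale
import Groth.Agent.UnramPt.Basic
import Groth.Agent.UnramPoint.Basic
import Groth.Agent.FibreFlat.PointCrit
import Groth.Agent.DMSlice.NearLocus
import Mathlib.AlgebraicGeometry.ZariskisMainTheorem

/-!
# Being etale, and being locally quasi-finite, near a point descends along smooth base change
-/

set_option autoImplicit false
set_option backward.isDefEq.respectTransparency false
set_option backward.isDefEq.respectTransparency.types false
universe u

noncomputable section

namespace Groth.Agent.DMSlice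

open CategoryTheory CategoryTheory.Limits AlgebraicGeometry Groth.Agent.FibreFlat

theorem flatAt_of_nearAt {U V : Scheme.{u}} {h : U ⟶ V} {x : U} {W : U.Opens} (hx : x ∈ W)
    [Flat (W.ι ≫ h)] : FlatAt h x :=
  flatAt_of_comp (q := W.ι) (g := h) (u := ⟨x, hx⟩) (flatAt_of_flat _ _) (flatAt_of_flat _ _)

theorem schDesc_etale : SchDesc @Etale @LocallyOfFinitePresentation := by
  intro U V V' h k hh hk x ⟨W', hxW', hW'⟩
  haveI := hh
  haveI := hk
  haveI := hW'
  haveI : Smooth (pullback.fst h k) := inferInstance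
  have h1 : FlatAt (pullback.snd h k ≫ k) x := flatAt_comp (flatAt_of_nearAt hxW') (flatAt_of_flat k _)
  rw [← pullback.condition] at h1
  have hflat : FlatAt h (pullback.fst h k x) := flatAt_of_comp (flatAt_of_flat _ x) h1
  obtain ⟨W, hxW, hW⟩ := UnramPt.exists_nhd_of_baseChange h k x W' hxW' inferInstance
  exact FieldPow.exists_etale_nhd h _ hflat ((UnramPoint.exists_nhd_iff_stalkMap h _).1 ⟨W, hxW, hW⟩)

/-- being quasi-finite at a point descends along any base change -/
theorem quasiFiniteAt_of_baseChange {U V V' : Scheme.{u}} (h : U ⟶ V) [LocallyOfFiniteType h] (k : V' ⟶ V)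
    {x : ↑(pullback h k)} (hq : (pullback.snd h k).QuasiFiniteAt x) :
    h.QuasiFiniteAt (pullback.fst h k x) := by
  set y : V' := pullback.snd h k x with hy
  have sqF := isPullback_fiberToSpecResidueField_of_isPullback (IsPullback.of_hasPullback h k) y
  set π := pullback.map (pullback.snd h k) (V'.fromSpecResidueField y) h (V.fromSpecResidueField (k y))
    (pullback.fst h k) (Spec.map (k.residueFieldMap y)) k (IsPullback.of_hasPullback h k).w.symm (by simp) with hπ
  haveI : UniversallyOpen π := MorphismProperty.of_isPullback sqF.flip inferInstance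
  have e : k y = h (pullback.fst h k x) := by
    rw [hy, ← Scheme.Hom.comp_apply, ← pullback.condition, Scheme.Hom.comp_apply]
  have h1 := π.isOpenMap _ (Scheme.Hom.quasiFiniteAt_iff_isOpen_singleton_asFiber.1 hq)
  rw [Set.image_singleton] at h1
  have hfst : π ≫ h.fiberι (k y) = (pullback.snd h k).fiberι y ≫ pullback.fst h k := pullback.lift_fst _ _ _
  have h2 : h.fiberι (k y) (π ((pullback.snd h k).asFiber x)) = pullback.fst h k x :=
    (Scheme.Hom.comp_apply π (h.fiberι (k y)) _).symm.trans
      ((congrArg (fun m => (ConcreteCategory.hom (Scheme.Hom.toLRSHom m).base) ((pullback.snd h k).asFiber x)) hfst).trans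
        ((Scheme.Hom.comp_apply _ _ _).trans (congrArg _ ((pullback.snd h k).fiberι_asFiber x))))
  rw [Scheme.Hom.quasiFiniteAt_iff_isOpen_singleton_asFiber]
  have key : ∀ {z : V} (_ : z = h (pullback.fst h k x)) (p : h.fiber z), IsOpen {p} →
      h.fiberι z p = pullback.fst h k x → IsOpen {h.asFiber (pullback.fst h k x)} := by
    rintro z rfl p hp hpx
    rwa [show h.asFiber (pullback.fst h k x) = p from (h.fiberι _).isEmbedding.injective
      ((h.fiberι_asFiber _).trans hpx.symm)]
  exact key e _ h1 h2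

theorem locallyQuasiFinite_locus {U V : Scheme.{u}} (h : U ⟶ V) [LocallyOfFiniteType h] :
    (@LocallyQuasiFinite ⊓ @LocallyOfFiniteType : MorphismProperty Scheme.{u}) (h.quasiFiniteLocus.ι ≫ h) :=
  ⟨inferInstance, inferInstance⟩

theorem quasiFiniteAt_of_nearAt {U V : Scheme.{u}} {h : U ⟶ V} {x : U} {W : U.Opens} (hx : x ∈ W)
    [LocallyQuasiFinite (W.ι ≫ h)] : h.QuasiFiniteAt x :=
  (Scheme.Hom.quasiFiniteAt_comp_iff_of_isOpenImmersion (f := W.ι) (g := h) (x := ⟨x, hx⟩)).1
    ((W.ι ≫ h).quasiFiniteAt ⟨x, hx⟩)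

theorem schDesc_lqf : SchDesc (@LocallyQuasiFinite ⊓ @LocallyOfFiniteType) @LocallyOfFiniteType := by
  intro U V V' h k hh _ x hx
  obtain ⟨W', hxW', hW'⟩ := hx
  haveI := hh
  haveI : LocallyQuasiFinite (W'.ι ≫ pullback.snd h k) := hW'.1
  exact ⟨h.quasiFiniteLocus, quasiFiniteAt_of_baseChange h k (quasiFiniteAt_of_nearAt hxW'),
    locallyQuasiFinite_locus h⟩

end Groth.Agent.DMSlice

end
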