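import Groth.Agent.DMSlice.Stack
import Groth.Agent.AlgStLib.Morphisms
import Groth.Agent.AlgStLib.IsoClassSp
import Groth.Agent.ArtinAtlas.Setup

/-!
# The relation of an atlas over the product of the atlas with itself
-/

set_option autoImplicit false
set_option backward.isDefEq.respectTransparency false
set_option backward.isDefEq.respectTransparency.types false
set_option linter.style.haveILetI false
universe u

noncomputable section

namespace Groth.Agent.DMSlice

open CategoryTheory CategoryTheory.Limits AlgebraicGeometry Groth.Agent.AlgSpLib Groth.Agent.StkBasic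
  Groth.Agent.FibCatRep Groth.Agent.FibCat2Misc Groth.Agent.AlgStLib
open _root_.AlgSp _root_.AlgSt

variable {S : Scheme.{u}} {𝒳 : AlgSt.Cat S} {U : Over S}

/-- the base scheme as an object over itself -/
abbrev topOver (S : Scheme.{u}) : Over S := Over.mk (𝟙 S)

/-- the map to the base -/
abbrev toTop (U : Over S) : U ⟶ topOver S := Over.homMk U.hom (Category.comp_id _)

/-- the product over the base -/
abbrev sq2 (U : Over S) : Over S := Over.mk (pullback.fst U.hom U.hom ≫ U.hom)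

/-- the first projection -/
abbrev pr₁ (U : Over S) : sq2 U ⟶ U := Over.homMk (pullback.fst U.hom U.hom) rfl

/-- the second projection -/
abbrev pr₂ (U : Over S) : sq2 U ⟶ U := Over.homMk (pullback.snd U.hom U.hom) pullback.condition.symm

theorem isPullback_sq2 (U : Over S) : IsPullback ((yon S).map (pr₁ U)) ((yon S).map (pr₂ U))
    ((yon S).map (toTop U)) ((yon S).map (toTop U)) :=
  isPullback_yon_iff.2 (IsPullback.of_hasPullback U.hom U.hom)

theorem full_toSelf_top : (FibCat.toSelf (AlgSt.ofSp (spOf (topOver S)).obj)).toFunctor.Full := by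
  refine ⟨fun {a b} g => ⟨⟨g, ?_⟩, rfl⟩⟩
  haveI : Subsingleton (a.base ⟶ topOver S) :=
    ⟨fun p q => Over.OverMorphism.ext (((Category.comp_id _).symm.trans (Over.w p)).trans
      ((Over.w q).symm.trans (Category.comp_id _)))⟩
  haveI : Subsingleton (((yon S).obj (topOver S)).obj.obj (Opposite.op a.base)) :=
    inferInstanceAs (Subsingleton (ULift.{u + 1} (a.base ⟶ topOver S)))
  exact Subsingleton.elim _ _

theorem faithful_toSelf_top : (FibCat.toSelf (AlgSt.ofSp (spOf (topOver S)).obj)).toFunctor.Faithful :=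
  ⟨fun {_ _} _ _ h => Stk.EltObj.hom_ext h⟩

variable {Q₀ : MorphismProperty Scheme.{u}} [Q₀.RespectsIso]

set_option maxHeartbeats 1000000 in
/-- the relation of an atlas maps to the product with a property of the diagonal -/
theorem exists_pairing (hcQ : Cls (LocP (S := S) Q₀))
    (hd : RepByAlgSpWith (LocP Q₀) (FibCat.diag (FibCat.toSelf 𝒳)))
    {y : AlgSt.ofSp (spOf U).obj ⥤ᵇ 𝒳} (R : Mdl y y) :
    ∃ m : R.A ⟶ spOf (sq2 U), LocP Q₀ m.hom ∧ m.hom ≫ (yon S).map (pr₁ U) = R.a.hom ∧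
      m.hom ≫ (yon S).map (pr₂ U) = (toSrc R).hom := by
  haveI := respectsIso_onSp hcQ.bc
  haveI := ArtinAtlas.respectsIso_locP (S := S) Q₀
  let τ := Stk.ofPshMap ((yon S).map (toTop U)).hom
  let q := FibCat.toSelf 𝒳
  let q₀ := FibCat.toSelf (AlgSt.ofSp (spOf (topOver S)).obj)
  let α : BasedFunctor.comp τ q₀ ≅ BasedFunctor.comp (BasedFunctor.id _) (BasedFunctor.comp y q) :=
    eqToIso (by
      show BasedFunctor.comp τ q₀ = BasedFunctor.comp y q
      rw [comp_toSelf, comp_toSelf])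
  haveI : q₀.toFunctor.Full := full_toSelf_top
  haveI : q₀.toFunctor.Faithful := faithful_toSelf_top
  let E₁ := pbFun ((isPullback_sq2 U).map (sheafToPresheaf (J S) (Type (u + 1)))).toCommSq
  let E₂ : FibCat.fp τ τ ⥤ᵇ FibCat.fp (BasedFunctor.comp y q) (BasedFunctor.comp y q) :=
    fpMap (F := BasedFunctor.comp y q) (G := BasedFunctor.comp y q) τ τ (BasedFunctor.id _) (BasedFunctor.id _)
      q₀ α α
  let E := BasedFunctor.comp E₁ E₂
  have hE : FibCat.IsEquivOver E :=
    isEquivOver_comp (isEquivOver_pbFun ((isPullback_sq2 U).map (sheafToPresheaf (J S) (Type (u + 1)))))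
      (isEquivOver_fpMap (F := BasedFunctor.comp y q) (G := BasedFunctor.comp y q) _ _ _ _ q₀ α α
        isEquivOver_id isEquivOver_id)
  obtain ⟨k, hk, -, ⟨jr⟩⟩ := isEquivOver_symm hE
  let ε : BasedFunctor.comp (FibCat.fpFst y y) (BasedFunctor.comp y q) ≅
      BasedFunctor.comp (FibCat.fpSnd y y) (BasedFunctor.comp y q) := (post _ q).mapIso (FibCat.fpIso y y)
  let C := FibCat.fpLift (FibCat.fpFst y y) (FibCat.fpSnd y y) ε
  let Φ := BasedFunctor.comp (BasedFunctor.comp R.e C) k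
  let jΦ : BasedFunctor.comp Φ E ≅ BasedFunctor.comp R.e C :=
    (Stk.restr (BasedFunctor.comp R.e C) _).mapIso jr
  have hΦ : RepByAlgSpWith (LocP Q₀) Φ :=
    (repWith_iff_of_equiv _ C Φ R.e E R.he hE jΦ).1
      ((repWith_iff_of_equiv (LocP Q₀) (FibCat.fpFst (cmpMap y y q) (FibCat.diag q)) C (cmpDiag ε (fun _ => rfl))
        (BasedFunctor.id _) (isEquivOver_cmpDiag ε (fun _ => rfl)) isEquivOver_id (Iso.refl _)).1
        (repWith_fpFst _ (FibCat.diag q) (cmpMap y y q) hd))
  let m : R.A ⟶ spOf (sq2 U) := ObjectProperty.homMk (ObjectProperty.homMk (mapOf Φ))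
  refine ⟨m, of_repBySpWith hcQ.loc R.A.property (IsAlgSpace.yon_obj _) m.hom
    ((repWith_ofPshMap_iff _ _).1 (repWith_congr _ (mapOfIso Φ) hΦ)), ?_, ?_⟩
  · refine ObjectProperty.hom_ext _ ?_
    show mapOf Φ ≫ ((yon S).map (pr₁ U)).hom = R.a.hom.hom
    rw [R.pr, ← mapOf_ofPshMap ((yon S).map (pr₁ U)).hom, ← mapOf_comp]
    exact mapOf_congr ((post _ (FibCat.fpFst _ _)).mapIso jΦ)
  · refine ObjectProperty.hom_ext _ ?_
    show mapOf Φ ≫ ((yon S).map (pr₂ U)).hom = mapOf (BasedFunctor.comp R.e (FibCat.fpSnd y y))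
    rw [← mapOf_ofPshMap ((yon S).map (pr₂ U)).hom, ← mapOf_comp]
    exact mapOf_congr ((post _ (FibCat.fpSnd _ _)).mapIso jΦ)

theorem exists_chart_pairing (hcQ : Cls (LocP (S := S) Q₀))
    (hd : RepByAlgSpWith (LocP Q₀) (FibCat.diag (FibCat.toSelf 𝒳)))
    {y : AlgSt.ofSp (spOf U).obj ⥤ᵇ 𝒳} (R : Mdl y y) {R₀ : Over S} {c : (yon S).obj R₀ ⟶ R.A.obj}
    (hc : AlgSp.RepWith @Etale c) {s t : R₀ ⟶ U} (hs : (yon S).map s = c ≫ R.a.hom)
    (ht : (yon S).map t = c ≫ (toSrc R).hom) :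
    ∃ w : t.left ≫ U.hom = s.left ≫ U.hom, Q₀ (pullback.lift s.left t.left w.symm) := by
  obtain ⟨m, hm, h₁, h₂⟩ := exists_pairing hcQ hd R
  refine ⟨(Over.w t).trans (Over.w s).symm, ?_⟩
  let d : R₀ ⟶ sq2 U := Over.homMk (pullback.lift s.left t.left ((Over.w s).trans (Over.w t).symm))
    ((pullback.lift_fst_assoc _ _ _ _).trans (Over.w s))
  refine hm c (𝟙 _) d hc (AlgSp.repWith_id _ _) ?_
  rw [Category.comp_id]
  refine (isPullback_sq2 U).hom_ext ?_ ?_
  · rw [← Functor.map_comp, Category.assoc, h₁, show d ≫ pr₁ U = s from Over.OverMorphism.ext (pullback.lift_fst _ _ _), hs]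
  · rw [← Functor.map_comp, Category.assoc, h₂, show d ≫ pr₂ U = t from Over.OverMorphism.ext (pullback.lift_snd _ _ _), ht]

end Groth.Agent.DMSlice

end
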