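import Groth.Agent.GerbDense.OrbitChart
import Groth.Agent.ArtinAtlas.Setup

/-!
# Residual gerbes at points of locally quasi-finite charts
-/

set_option autoImplicit false
set_option backward.isDefEq.respectTransparency false
set_option backward.isDefEq.respectTransparency.types false
set_option linter.style.haveILetI false
universe u

noncomputable section

namespace Groth.Agent.DMSlice

open CategoryTheory CategoryTheory.Limits AlgebraicGeometry Opposite Groth.Agent.AlgSpLib Groth.Agent.StkBasic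
  Groth.Agent.FibCatRep Groth.Agent.FibCat2Misc Groth.Agent.AlgStLib Groth.Agent.GerbDense
open _root_.AlgSp _root_.AlgSt

variable {S : Scheme.{u}} {𝒳 : AlgSt.Cat S}

/-- residual gerbes at points of locally quasi-finite charts -/
theorem resGerbeExists_of_lqf (h𝒳 : IsAlgStack Scheme.fppfPrecoverage 𝒳) {U : Over S}
    (x : AlgSt.ofSp (spOf U).obj ⥤ᵇ 𝒳)
    (hx : RepByAlgSpWith (LocP (@LocallyQuasiFinite ⊓ @LocallyOfFiniteType)) x) (p : U.left) :
    Gerb.ResGerbeExists Scheme.fppfPrecoverage 𝒳 (AlgSt.Points.ofChart (BasedFunctor.comp (ofOverCat U) x) p) := by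
  let fp' : Spec (U.left.residueField p) ⟶ U.left := U.left.fromSpecResidueField p
  let K : Over S := Over.mk (fp' ≫ U.hom)
  let m : K ⟶ U := Over.homMk fp' rfl
  let xU := BasedFunctor.comp (ofOverCat U) x
  let q : AlgSt.ofSp (spOf K).obj ⥤ᵇ 𝒳 := BasedFunctor.comp (Stk.ofPshMap ((yon S).map m).hom) x
  let qK := BasedFunctor.comp (ofOverCat K) q
  have hptK : ∀ t : ↥K.left, AlgSt.Points.ofChart qK t = AlgSt.Points.ofChart xU p := fun t => by
    rw [show p = m.left t from (Scheme.fromSpecResidueField_apply p t).symm, ← ofChart_overMap xU m t]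
    rfl
  have hq : ∀ z, AlgSt.Points.map q z = AlgSt.Points.ofChart xU p := fun z => by
    obtain ⟨t⟩ : Nonempty ↥K.left := inferInstanceAs (Nonempty (PrimeSpectrum (U.left.residueField p)))
    haveI := subsingleton_points_field (S := S) (L := U.left.residueField p) (fp' ≫ U.hom)
    rw [Subsingleton.elim z (AlgSt.Points.ofChart (ofOverCat K) t), map_ofChart]
    exact hptK t
  refine resGerbeExists_of_point h𝒳 q hq ?_
  have hQ := cls_locP (S := S) etST_lqf (isLocalOnBase_locP etST_lqf)
  haveI := respectsIso_onSp hQ.bc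
  have hr : RepByAlgSp1 q := repByAlgSp1_point h𝒳.isStack.1 h𝒳.diag (isAlgSpaceP_yon K) q
  obtain ⟨F, e, he⟩ := repByAlgSp_fp_yon hr U x
  have hF : IsAlgSpace F.obj := F.property
  let π : F.obj ⟶ (yon S).obj U := ObjectProperty.homMk (prjMap e)
  let β := BasedFunctor.comp e (FibCat.fpSnd x q)
  let b : F.obj ⟶ (yon S).obj K := ObjectProperty.homMk (mapOf β)
  have hsnd : RepByAlgSpWith (LocP (@LocallyQuasiFinite ⊓ @LocallyOfFiniteType)) (Stk.ofPshMap (mapOf β)) :=
    repWith_congr _ (mapOfIso β) ((repWith_iff_of_equiv _ (FibCat.fpSnd x q) β e (BasedFunctor.id _) he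
      isEquivOver_id (Iso.refl _)).1 (repWith_fpSnd _ x q hx))
  have hb : LocP (@LocallyQuasiFinite ⊓ @LocallyOfFiniteType) b := by
    haveI := Groth.Agent.ArtinAtlas.respectsIso_locP (S := S) (@LocallyQuasiFinite ⊓ @LocallyOfFiniteType)
    exact of_repBySpWith hQ.loc hF (IsAlgSpace.yon_obj K) b ((repWith_ofPshMap_iff _ _).1 hsnd)
  obtain ⟨W, c, hce, hcs⟩ := hF.atlas
  obtain ⟨h, hh⟩ := exists_map_eq (c ≫ π)
  obtain ⟨k, hk⟩ := exists_map_eq (c ≫ b)
  obtain ⟨hkq, hkf⟩ : (@LocallyQuasiFinite ⊓ @LocallyOfFiniteType : MorphismProperty Scheme.{u}) k.left := hb c (𝟙 _) k hce (AlgSp.repWith_id _ K) (by rw [Category.comp_id, hk])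
  let cW : FibCat.overCat W ⥤ᵇ FibCat.fp x q :=
    BasedFunctor.comp (BasedFunctor.comp (ofOverCat W) (Stk.ofPshMap c.hom)) e
  have i₁ : BasedFunctor.comp (BasedFunctor.comp (Stk.ofPshMap c.hom) e) (FibCat.fpFst x q) ≅
      Stk.ofPshMap ((yon S).map h).hom :=
    (mapOfIso _).symm ≪≫ eqToIso (congrArg Stk.ofPshMap (by
      show mapOf (BasedFunctor.comp (Stk.ofPshMap c.hom) (BasedFunctor.comp e (FibCat.fpFst x q))) = _
      rw [mapOf_comp, mapOf_ofPshMap]
      exact (congrArg (fun t => t.hom) hh).symm))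
  have i₂ : BasedFunctor.comp (BasedFunctor.comp (Stk.ofPshMap c.hom) e) (FibCat.fpSnd x q) ≅
      Stk.ofPshMap ((yon S).map k).hom :=
    (mapOfIso _).symm ≪≫ eqToIso (congrArg Stk.ofPshMap (by
      show mapOf (BasedFunctor.comp (Stk.ofPshMap c.hom) β) = _
      rw [mapOf_comp, mapOf_ofPshMap]
      exact (congrArg (fun t => t.hom) hk).symm))
  let j₁ : BasedFunctor.comp cW (BasedFunctor.comp (FibCat.fpFst x q) x) ≅
      BasedFunctor.comp (AlgSt.overMap h) xU :=
    (post _ x).mapIso ((Stk.restr (ofOverCat W) _).mapIso i₁)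
  let j₂ : BasedFunctor.comp cW (BasedFunctor.comp (FibCat.fpSnd x q) q) ≅
      BasedFunctor.comp (AlgSt.overMap k) qK :=
    (post _ q).mapIso ((Stk.restr (ofOverCat W) _).mapIso i₂)
  haveI := hkq
  haveI := hkf
  haveI : DiscreteTopology W.left := by
    obtain ⟨t₀⟩ : Nonempty ↥K.left := inferInstanceAs (Nonempty (PrimeSpectrum (U.left.residueField p)))
    haveI : Subsingleton ↥K.left := inferInstanceAs (Subsingleton (PrimeSpectrum (U.left.residueField p)))
    have h0 := k.left.isDiscrete_preimage_singleton t₀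
    rw [show k.left ⁻¹' {t₀} = Set.univ from Set.eq_univ_of_forall fun w => Subsingleton.elim _ _] at h0
    exact isDiscrete_univ_iff.1 h0
  haveI : IsPreimmersion (pullback.fst h.left fp') := MorphismProperty.pullback_fst _ _ inferInstance
  haveI : IsClosedImmersion (pullback.fst h.left fp') := IsClosedImmersion.of_isPreimmersion _ (isClosed_discrete _)
  have sq := IsPullback.of_hasPullback π ((yon S).map m)
  have hP : IsAlgSpace (pullback π ((yon S).map m)) :=
    isAlgSpace_of_isPullback_space (IsAlgSpace.yon_obj U) hF (IsAlgSpace.yon_obj K) sq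
  let W' : Over S := Over.mk (pullback.fst h.left (fp') ≫ W.hom)
  let f₁ : W' ⟶ W := Over.homMk (pullback.fst h.left (fp')) rfl
  let f₂ : W' ⟶ K := Over.homMk (pullback.snd h.left (fp')) (by
    show pullback.snd h.left (fp') ≫ fp' ≫ U.hom = pullback.fst h.left (fp') ≫ W.hom
    rw [← pullback.condition_assoc]
    exact congrArg (_ ≫ ·) (Over.w h))
  have sqT : IsPullback ((yon S).map f₁) ((yon S).map f₂) (c ≫ π) ((yon S).map m) := by
    rw [← hh, isPullback_yon_iff]
    exact IsPullback.of_hasPullback h.left (fp')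
  let a := sq.lift ((yon S).map f₁ ≫ c) ((yon S).map f₂) (by rw [Category.assoc]; exact sqT.w)
  have sqa : IsPullback ((yon S).map f₁) a c (pullback.fst π ((yon S).map m)) := by
    refine IsPullback.of_bot ?_ (sq.lift_fst _ _ _).symm sq
    rw [show a ≫ pullback.snd π ((yon S).map m) = (yon S).map f₂ from sq.lift_snd _ _ _]
    exact sqT
  let d : pullback π ((yon S).map m) ⟶ (yon S).obj K := pullback.fst π ((yon S).map m) ≫ b
  have hlft : LocP @LocallyOfFiniteType d := by
    refine locP_of_chart etST_lft hP (IsAlgSpace.yon_obj K) (repWith_baseChange sqa hce) (repWith_baseChange sqa hcs)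
      (AlgSp.repWith_id _ _) (h := f₁ ≫ k) ?_ ?_
    · rw [Category.comp_id, Functor.map_comp, hk, ← Category.assoc]
      exact congrArg (· ≫ b) (sq.lift_fst _ _ _) |>.trans (Category.assoc _ _ _)
    · show LocallyOfFiniteType (f₁.left ≫ k.left)
      haveI : IsClosedImmersion f₁.left := inferInstanceAs (IsClosedImmersion (pullback.fst h.left (fp')))
      infer_instance
  obtain ⟨e', he', -, ⟨i'⟩⟩ := exists_model_baseChange' (f := q) (y := x) ((yon S).map m).hom he
    (sq.map (sheafToPresheaf (J S) (Type (u + 1))))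
  let V : AlgSp.Space S := ⟨_, hP⟩
  let aV : V ⟶ spOf K := ObjectProperty.homMk d
  let e'' : AlgSt.ofSp V.obj ⥤ᵇ FibCat.fp q q := BasedFunctor.comp e' (swapFun q q)
  have he'' : FibCat.IsEquivOver e'' := isEquivOver_comp he' (isEquivOver_swapFun q q)
  let i'' : BasedFunctor.comp e'' (FibCat.fpFst q q) ≅ AlgSt.ofSpMap aV.hom :=
    i' ≪≫ (mapOfIso _).symm ≪≫ eqToIso (congrArg Stk.ofPshMap (by
      show mapOf (BasedFunctor.comp (Stk.ofPshMap (pullback.fst π ((yon S).map m)).hom) β) = _
      rw [mapOf_comp, mapOf_ofPshMap]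
      rfl))
  exact ⟨repWith_fpFst_of_model (V := V) (W := spOf K) cls_flat.bc he'' i'' (locP_flat_to_field d),
    repWith_fpFst_of_model (V := V) (W := spOf K) cls_lfp.bc he'' i'' (lfp_to_field d hlft)⟩

end Groth.Agent.DMSlice

end
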