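import Groth.Agent.DMSlice.Affine
import Groth.Agent.DMSlice.Descend

/-!
# Slicing a chart to a locally quasi-finite one at a point
-/

set_option autoImplicit false
set_option backward.isDefEq.respectTransparency false
set_option backward.isDefEq.respectTransparency.types false
set_option linter.style.haveILetI false
universe u

open CategoryTheory CategoryTheory.Limits AlgebraicGeometry

noncomputable section

namespace Groth.Agent.DMSlice

/-- an immersion composed with a map is quasi-finite at a point isolated in its fibre -/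
theorem quasiFiniteAt_of_isolated {X R₀ U : Scheme.{u}} (g : X ⟶ R₀) (hg : Topology.IsEmbedding g) (s : R₀ ⟶ U)
    [LocallyOfFiniteType (g ≫ s)] (x : X) {O : Set R₀} (hO : IsOpen O) (hxO : g x ∈ O)
    (hiso : ∀ y, g y ∈ O → s (g y) = s (g x) → g y = g x) : (g ≫ s).QuasiFiniteAt x := by
  rw [Scheme.Hom.quasiFiniteAt_iff_isOpen_singleton_asFiber]
  let ι := (g ≫ s).fiberι ((g ≫ s) x)
  let N : Set ↑((g ≫ s).fiber ((g ≫ s) x)) := (g ∘ ι) ⁻¹' O
  have hN : IsOpen N := hO.preimage (g.continuous.comp ι.continuous)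
  have hx : ι ((g ≫ s).asFiber x) = x := (g ≫ s).fiberι_asFiber x
  suffices h : N = {(g ≫ s).asFiber x} by rwa [← h]
  refine Set.Subset.antisymm (fun y hy => ?_) (fun y hy => ?_)
  · have h1 : (g ≫ s) (ι y) = (g ≫ s) x := ((g ≫ s).range_fiberι _).le ⟨y, rfl⟩
    exact ι.isEmbedding.injective (hg.injective ((hiso (ι y) hy ((Scheme.Hom.comp_apply g s (ι y)).symm.trans
      (h1.trans (Scheme.Hom.comp_apply g s x)))).trans (congrArg g hx.symm)))
  · obtain rfl := Set.mem_singleton_iff.1 hy
    show g (ι _) ∈ O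
    rw [hx]
    exact hxO

set_option maxHeartbeats 1000000 in
/-- a closed piece of the target on which the first map is quasi-finite at a point of a given fibre -/
theorem exists_slice_qf {S R₀ U : Scheme.{u}} (p : U ⟶ S) (s t : R₀ ⟶ U) [LocallyOfFiniteType s]
    (hw₀ : t ≫ p = s ≫ p) (hst : LocallyQuasiFinite (pullback.lift t s hw₀)) (r₀ : R₀) :
    ∃ (M : Scheme.{u}) (π : M ⟶ U) (x : ↑(pullback t π)), LocallyOfFiniteType π ∧
      s (pullback.fst t π x) = s r₀ ∧
      NearAt (@LocallyQuasiFinite ⊓ @LocallyOfFiniteType) (pullback.fst t π ≫ s) x := by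
  obtain ⟨D⟩ := exists_fibData p s t hw₀ r₀
  letI := D.κC.hom.toAlgebra
  letI := D.cK.hom.toAlgebra
  letI := D.kB.hom.toAlgebra
  haveI := D.hB
  haveI := D.hA
  haveI := D.nonempty
  haveI : Algebra.FiniteType (U.residueField (s r₀)) D.B := by
    haveI : LocallyOfFiniteType (s.fiberToSpecResidueField (s r₀)) :=
      MorphismProperty.pullback_snd _ _ inferInstance
    have : LocallyOfFiniteType (Spec.map D.kB) := by rw [← D.hkB]; infer_instance
    exact (HasRingHomProperty.Spec_iff (P := @LocallyOfFiniteType)).1 this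
  have hβ : D.β.QuasiFinite := (HasRingHomProperty.Spec_iff (P := @LocallyQuasiFinite)).1
    (D.prop_β cancels_lqf hw₀ hst)
  obtain ⟨J, q, b, hJq, hbq, hiso⟩ := exists_isolated (K := U.residueField (s r₀)) D.φ.hom
    fun q' _ _ => isAlgebraic_of_quasiFinite D.φ.hom D.β D.β_left D.β_right hβ q'
  let cl : Spec (CommRingCat.of (D.A ⧸ J)) ⟶ Spec D.A := Spec.map (CommRingCat.ofHom (Ideal.Quotient.mk J))
  haveI : IsClosedImmersion cl := IsClosedImmersion.spec_of_surjective _ Ideal.Quotient.mk_surjective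
  let π := cl ≫ D.jA
  haveI : IsImmersion π := inferInstance
  have hcl : Set.range cl = PrimeSpectrum.zeroLocus (J : Set D.A) :=
    (range_comap_of_surjective _ (Ideal.Quotient.mk J) Ideal.Quotient.mk_surjective).trans
      (by rw [Ideal.mk_ker])
  let ι := s.fiberι (s r₀)
  have htι : ∀ z, t (ι (D.jB z)) = D.jA (Spec.map D.φ z) := fun z => by
    rw [← Scheme.Hom.comp_apply, ← Scheme.Hom.comp_apply, ← Scheme.Hom.comp_apply]
    exact congrArg (fun m => (ConcreteCategory.hom (Scheme.Hom.toLRSHom m).base) z) D.hφ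
  -- the point
  have hz : t (ι (D.jB q)) ∈ Set.range π := by
    have e := htι q
    obtain ⟨w, hw⟩ : Spec.map D.φ q ∈ Set.range cl := hcl.ge hJq
    exact ⟨w, by rw [e, ← hw, ← Scheme.Hom.comp_apply]⟩
  obtain ⟨w, hw⟩ := hz
  obtain ⟨x, hx, -⟩ := Scheme.Pullback.exists_preimage_pullback (f := t) (g := π) (ι (D.jB q)) w hw.symm
  have hsx : s (pullback.fst t π x) = s r₀ := by
    rw [hx]
    exact (s.range_fiberι (s r₀)).le ⟨_, rfl⟩
  let h := pullback.fst t π ≫ s
  haveI : LocallyOfFiniteType h := inferInstance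
  refine ⟨_, π, x, inferInstance, hsx, h.quasiFiniteLocus, ?_, locallyQuasiFinite_locus h⟩
  -- an open of the source isolating the point in its fibre
  have hOB : IsOpen (D.jB '' (PrimeSpectrum.basicOpen b : Set (PrimeSpectrum D.B))) :=
    D.jB.isOpenEmbedding.isOpenMap _ (PrimeSpectrum.basicOpen b).2
  obtain ⟨O, hO, hOeq⟩ := ι.isEmbedding.isInducing.isOpen_iff.1 hOB
  have hxO : pullback.fst t π x ∈ O := by
    rw [hx, ← Set.mem_preimage, hOeq]
    exact ⟨q, hbq, rfl⟩
  refine quasiFiniteAt_of_isolated (pullback.fst t π) (pullback.fst t π).isEmbedding s x hO hxO fun y hy hsy => ?_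
  obtain ⟨w', hw'⟩ : pullback.fst t π y ∈ Set.range ι := (s.range_fiberι (s r₀)).ge (hsy.trans hsx)
  obtain ⟨q', hbq', rfl⟩ : w' ∈ D.jB '' (PrimeSpectrum.basicOpen b : Set (PrimeSpectrum D.B)) := by
    rw [← hOeq, Set.mem_preimage, hw']
    exact hy
  have h1 : π (pullback.snd t π y) = D.jA (Spec.map D.φ q') :=
    calc π (pullback.snd t π y) = t (pullback.fst t π y) :=
          ((Scheme.Hom.comp_apply _ _ _).symm.trans
            (congrArg (fun m => (ConcreteCategory.hom (Scheme.Hom.toLRSHom m).base) y) pullback.condition.symm)).trans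
            (Scheme.Hom.comp_apply _ _ _)
      _ = t (ι (D.jB q')) := congrArg t hw'.symm
      _ = D.jA (Spec.map D.φ q') := htι q'
  have hzc : cl (pullback.snd t π y) = Spec.map D.φ q' :=
    D.jA.isOpenEmbedding.injective ((Scheme.Hom.comp_apply _ _ _).symm.trans h1)
  obtain rfl : q' = q := hiso q' hbq' (hcl.le ⟨_, hzc⟩)
  rw [hx]
  exact hw'.symm

end Groth.Agent.DMSlice

end
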