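import Groth.Agent.DMSlice.Atlas
import Groth.Agent.DMSlice.SliceQf
import Groth.Agent.DMSlice.ResLqf
import Groth.Agent.AlgStLib.LocQCalc

/-!
# Points of quasi-DM stacks lie on locally quasi-finite charts
-/

set_option autoImplicit false
set_option backward.isDefEq.respectTransparency false
set_option backward.isDefEq.respectTransparency.types false
set_option linter.style.haveILetI false
universe u

noncomputable section

namespace Groth.Agent.DMSlice

open CategoryTheory CategoryTheory.Limits AlgebraicGeometry Groth.Agent.AlgSpLib Groth.Agent.StkBasic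
  Groth.Agent.FibCatRep Groth.Agent.FibCat2Misc Groth.Agent.AlgStLib
open _root_.AlgSp _root_.AlgSt

variable {S : Scheme.{u}} {𝒳 : AlgSt.Cat S}

set_option maxHeartbeats 1000000 in
/-- every point of a quasi-DM algebraic stack is the image of a point of a locally quasi-finite chart -/
theorem exists_lqf_chart (h𝒳 : AlgSt.IsAlgStack Scheme.fppfPrecoverage 𝒳) (hq : AlgSt.IsQuasiDMOver 𝒳)
    (x : AlgSt.Points 𝒳) :
    ∃ (V : Over S) (g : AlgSt.ofSp (spOf V).obj ⥤ᵇ 𝒳) (p : V.left),
      RepByAlgSpWith (LocP (@LocallyQuasiFinite ⊓ @LocallyOfFiniteType)) g ∧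
      AlgSt.Points.map g (stPts (spOf V).obj (AlgSp.Points.ofScheme V p)) = x := by
  have hS := h𝒳.isStack.1
  have hcP := cls_locP (S := S) etST_lqf (isLocalOnBase_locP etST_lqf)
  have H : LocusHyp (LocP (@LocallyQuasiFinite ⊓ @LocallyOfFiniteType)) (LocP @LocallyOfFiniteType)
      (LocP (S := S) @Smooth) := locusHyp etST_lqf hcP cls_lft schDesc_lqf
  obtain ⟨U, y, hy, hys⟩ := exists_atlas_sp h𝒳
  obtain ⟨D⟩ := exists_atlasRel hS U y hy hys
  obtain ⟨u, rfl⟩ := D.pt_surjective hS x
  obtain ⟨r₀, rfl⟩ := D.s_surjective hS u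
  obtain ⟨w, hlift, -⟩ := exists_chart_pairing hcP hq D.R D.hce D.hs D.ht
  have hst : LocallyQuasiFinite (pullback.lift D.t.left D.s.left w) := by
    haveI := hlift
    rw [show pullback.lift D.t.left D.s.left w =
      pullback.lift D.s.left D.t.left w.symm ≫ (pullbackSymmetry D.U.hom D.U.hom).hom by
        apply pullback.hom_ext <;> simp]
    infer_instance
  haveI := D.smooth
  obtain ⟨M₀, π₀, x', hπ, hsx, hnear⟩ := exists_slice_qf D.U.hom D.s.left D.t.left w hst r₀
  let M : Over S := Over.mk (π₀ ≫ D.U.hom)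
  let π : M ⟶ D.U := Over.homMk π₀ rfl
  have hG : RepByAlgSpWith (LocP @LocallyOfFiniteType) (chartComp π D.y) :=
    repWith_chartComp etST_lft cls_lft hS π hπ
      (AlgStLib.repWith_mono D.hy fun _ _ a _ ha => locP_mono (fun _ _ r hr => by haveI : Smooth r := hr; infer_instance) a ha)
  obtain ⟨V, hV, hmem⟩ := D.exists_chart_of_slice hS h𝒳.diag etST_lqf hcP H π hG
  refine ⟨openPart M V, _, ⟨_, hmem x' hnear⟩, hV, ?_⟩
  show AlgSt.Points.map (BasedFunctor.comp (Stk.ofPshMap _) D.y) _ = _
  rw [map_comp_points]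
  show AlgSt.Points.map D.y (AlgSt.Points.map (AlgSt.ofSpMap ((yon S).map (openPartIncl M V ≫ π))) _) = _
  rw [map_stPts, map_ofScheme]
  refine Eq.trans ?_ ((D.pt_t (pullback.fst D.t.left π₀ x')).trans (congrArg D.pt hsx))
  refine congrArg D.pt ?_
  show π₀ (pullback.snd D.t.left π₀ x') = D.t.left (pullback.fst D.t.left π₀ x')
  rw [← Scheme.Hom.comp_apply, ← pullback.condition, Scheme.Hom.comp_apply]

end Groth.Agent.DMSlice

end
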