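import Mathlib

/-!
# Cutting out isolated points by equations with coefficients in a given subring
-/

set_option autoImplicit false
set_option linter.style.haveILetI false
universe u

open MvPolynomial

noncomputable section

namespace Groth.Agent.DMSlice

/-- algebraically closed fields contain infinitely many elements integral over `ℤ` -/
theorem infinite_integral (L : Type u) [Field L] [IsAlgClosed L] : {x : L | IsIntegral ℤ x}.Infinite := by
  intro hfin
  let F : Finset (integralClosure ℤ L) :=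
    @Finset.univ _ (Set.Finite.fintype (s := {x : L | IsIntegral ℤ x}) hfin)
  have hF : ∀ a, a ∈ F := fun a => @Finset.mem_univ _ (Set.Finite.fintype hfin) a
  let p : Polynomial (integralClosure ℤ L) := (∏ a ∈ F, (Polynomial.X - Polynomial.C a)) + 1
  have hd : ((∏ a ∈ F, (Polynomial.X - Polynomial.C a)) : Polynomial (integralClosure ℤ L)).degree = F.card := by
    rw [Polynomial.degree_prod]
    simp
  have hcard : 0 < F.card := Finset.card_pos.2 ⟨0, hF 0⟩
  have hm : p.Monic := by
    refine (Polynomial.monic_prod_X_sub_C _ F).add_of_left ?_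
    rw [hd, Polynomial.degree_one]
    exact_mod_cast hcard
  have hdeg : (p.map (algebraMap (integralClosure ℤ L) L)).degree ≠ 0 := by
    rw [hm.degree_map, Polynomial.degree_add_eq_left_of_degree_lt (by
      rw [hd, Polynomial.degree_one]; exact_mod_cast hcard), hd]
    exact_mod_cast hcard.ne'
  obtain ⟨x, hx⟩ := IsAlgClosed.exists_root _ hdeg
  have hxi : IsIntegral (integralClosure ℤ L) x :=
    ⟨p, hm, by rwa [Polynomial.IsRoot, Polynomial.eval_map] at hx⟩
  have : Algebra.IsIntegral ℤ (integralClosure ℤ L) := ⟨fun a => (isIntegral_algHom_iff (integralClosure ℤ L).val Subtype.val_injective).1 a.2⟩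
  have hxZ : IsIntegral ℤ x := isIntegral_trans x hxi
  let a : integralClosure ℤ L := ⟨x, hxZ⟩
  have : Polynomial.eval x (p.map (algebraMap (integralClosure ℤ L) L)) = 1 := by
    simp only [p, Polynomial.map_add, Polynomial.map_one, Polynomial.map_prod, Polynomial.eval_add,
      Polynomial.eval_one, Polynomial.eval_prod]
    rw [Finset.prod_eq_zero (hF a) (by simp [a]), zero_add]
  rw [hx] at this
  exact zero_ne_one this

theorem exists_eval_ne_zero {K : Type u} [Field K] {ι : Type u} {c : MvPolynomial ι K} (hc : c ≠ 0) :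
    ∃ x : ι → AlgebraicClosure K, (∀ i, IsIntegral ℤ (x i)) ∧ aeval x c ≠ 0 := by
  by_contra h
  push Not at h
  refine hc (map_injective _ (algebraMap K (AlgebraicClosure K)).injective ?_)
  rw [map_zero]
  refine MvPolynomial.funext_set (fun _ => {x : AlgebraicClosure K | IsIntegral ℤ x})
    (fun _ => infinite_integral _) fun x hx => ?_
  rw [MvPolynomial.eval_map, map_zero]
  exact h x fun i => hx i trivial

/-- a domain generated by elements integral over a field, up to inverses, has only the zero prime -/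
theorem isField_of_generators {K : Type u} [Field K] {ι : Type u} {E : Type u} [CommRing E] [IsDomain E]
    [Algebra K E] {Rc : Type u} [CommRing Rc] [Algebra Rc E] [Algebra.IsIntegral Rc E]
    (c : MvPolynomial ι K) [Algebra (MvPolynomial ι K) Rc] [IsLocalization.Away c Rc]
    [Algebra (MvPolynomial ι K) E] [IsScalarTower (MvPolynomial ι K) Rc E]
    [IsScalarTower K (MvPolynomial ι K) E]
    (hX : ∀ i, IsIntegral K (algebraMap (MvPolynomial ι K) E (X i))) : IsField E := by
  let I := integralClosure K E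
  haveI : Algebra.IsIntegral K I := ⟨fun a => (isIntegral_algHom_iff I.val Subtype.val_injective).1 a.2⟩
  have hI : IsField I := isField_of_isIntegral_of_isField' (Field.toIsField K)
  letI := hI.toField
  have hR : ∀ r : MvPolynomial ι K, IsIntegral K (algebraMap (MvPolynomial ι K) E r) := fun r => by
    induction r using MvPolynomial.induction_on with
    | C a =>
      rw [← MvPolynomial.algebraMap_eq, ← IsScalarTower.algebraMap_apply]
      exact isIntegral_algebraMap
    | add p q hp hq => rw [map_add]; exact hp.add hq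
    | mul_X p i hp => rw [map_mul]; exact hp.mul (hX i)
  have hRc : ∀ r : Rc, IsIntegral K (algebraMap Rc E r) := fun r => by
    obtain ⟨n, a, ha⟩ := IsLocalization.Away.surj c r
    have hu : IsUnit (algebraMap (MvPolynomial ι K) E c) := by
      rw [IsScalarTower.algebraMap_apply (MvPolynomial ι K) Rc E]
      exact (IsLocalization.Away.algebraMap_isUnit c).map _
    let cI : I := ⟨_, hR c⟩
    have hc0 : cI ≠ 0 := fun e => hu.ne_zero (congrArg Subtype.val e)
    have hmul : ((cI⁻¹ : I) : E) ^ n * (algebraMap (MvPolynomial ι K) E c) ^ n = 1 := by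
      rw [← mul_pow, show algebraMap (MvPolynomial ι K) E c = (cI : E) from rfl]
      rw [← Subalgebra.coe_mul, inv_mul_cancel₀ hc0, Subalgebra.coe_one, one_pow]
    have e : algebraMap Rc E r = algebraMap (MvPolynomial ι K) E a * ((cI⁻¹ : I) : E) ^ n := by
      have := congrArg (algebraMap Rc E) ha
      rw [map_mul, map_pow, ← IsScalarTower.algebraMap_apply, ← IsScalarTower.algebraMap_apply] at this
      rw [← this, mul_assoc, mul_comm _ (((cI⁻¹ : I) : E) ^ n), hmul, mul_one]
    rw [e]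
    exact (hR a).mul ((cI⁻¹ : I).2.pow n)
  haveI : Algebra.IsIntegral K E := ⟨fun z => by
    let A₀ : Subalgebra K E := integralClosure K E
    let φ : Rc →+* A₀ := (algebraMap Rc E).codRestrict A₀ hRc
    letI := φ.toAlgebra
    haveI : IsScalarTower Rc A₀ E := IsScalarTower.of_algebraMap_eq fun r => rfl
    haveI : Algebra.IsIntegral K A₀ := ⟨fun a => (isIntegral_algHom_iff A₀.val Subtype.val_injective).1 a.2⟩
    exact isIntegral_trans z ((Algebra.IsIntegral.isIntegral (R := Rc) z).tower_top (A := A₀))⟩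
  exact isField_of_isIntegral_of_isField' (Field.toIsField K)

set_option maxHeartbeats 1000000 in
/-- a closed point isolated in the locus cut out by the image of an ideal of `A` -/
theorem exists_isolated {A K B : Type u} [Field K] [CommRing A] [CommRing B] [Nontrivial B] [Algebra K B]
    [Algebra.FiniteType K B] (φ : A →+* B)
    (halg : ∀ q : Ideal B, q ∈ minimalPrimes B → [q.IsPrime] →
      Algebra.IsAlgebraic (Algebra.adjoin K (Set.range ((Ideal.Quotient.mk q).comp φ))) (B ⧸ q)) :
    ∃ (J : Ideal A) (q : PrimeSpectrum B) (b : B), J ≤ q.asIdeal.comap φ ∧ b ∉ q.asIdeal ∧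
      ∀ q' : PrimeSpectrum B, b ∉ q'.asIdeal → J ≤ q'.asIdeal.comap φ → q' = q := by
  classical
  haveI : IsNoetherianRing B := Algebra.FiniteType.isNoetherianRing K B
  obtain ⟨q₀, hq₀⟩ := Ideal.nonempty_minimalPrimes (I := (⊥ : Ideal B)) bot_ne_top
  change q₀ ∈ minimalPrimes B at hq₀
  haveI : q₀.IsPrime := hq₀.1.1
  haveI := halg q₀ hq₀
  let D := B ⧸ q₀
  haveI : FaithfulSMul K D := (faithfulSMul_iff_algebraMap_injective K D).2 (algebraMap K D).injective
  obtain ⟨t, hts, ht⟩ := exists_isTranscendenceBasis_subset (R := K)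
    (Set.range ((Ideal.Quotient.mk q₀).comp φ) : Set D)
  haveI : Finite t := by
    rw [← Cardinal.lt_aleph0_iff_finite, ht.cardinalMk_eq_trdeg]
    exact trdeg_lt_aleph0_of_finiteType
  choose f hf using fun i : t => hts i.2
  let R := MvPolynomial t K
  letI : Algebra R D := (aeval ((↑) : t → D)).toRingHom.toAlgebra
  haveI : IsScalarTower K R D := IsScalarTower.of_algebraMap_eq fun a => ((aeval ((↑) : t → D)).commutes a).symm
  have hRD : Function.Injective (algebraMap R D) := ht.1
  haveI : Algebra.IsAlgebraic R D := by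
    haveI := ht.isAlgebraic
    refine Algebra.IsAlgebraic.of_ringHom_of_comp_eq (S := Algebra.adjoin K (Set.range ((↑) : t → D))) (B := D)
      ht.1.aevalEquiv.toAlgHom.toRingHom (RingHom.id D) ht.1.aevalEquiv.surjective Function.injective_id ?_
    ext r <;> simp [RingHom.algebraMap_toAlgebra]
  -- avoid the other minimal primes
  obtain ⟨e, he₀, he⟩ : ∃ e, e ∉ q₀ ∧ ∀ m ∈ minimalPrimes B, e ∉ m → m = q₀ := by
    have hfin := (minimalPrimes.finite_of_isNoetherianRing (R := B))
    have : ∀ m : Ideal B, ∃ a, m ∈ minimalPrimes B → m ≠ q₀ → a ∈ m ∧ a ∉ q₀ := fun m => by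
      by_cases h : m ∈ minimalPrimes B ∧ m ≠ q₀
      · obtain ⟨a, ha, ha'⟩ := SetLike.not_le_iff_exists.1 fun hle => h.2 (le_antisymm hle (hq₀.2 h.1.1 hle))
        exact ⟨a, fun _ _ => ⟨ha, ha'⟩⟩
      · exact ⟨0, fun h1 h2 => absurd ⟨h1, h2⟩ h⟩
    choose a ha using this
    refine ⟨∏ m ∈ hfin.toFinset.erase q₀, a m, fun hmem => ?_, fun m hm hem => by_contra fun hne => hem ?_⟩
    · obtain ⟨m, hm, hm'⟩ := (Ideal.IsPrime.prod_mem_iff (p := q₀)).1 hmem
      rw [Finset.mem_erase, Set.Finite.mem_toFinset] at hm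
      exact (ha m hm.2 hm.1).2 hm'
    · have hmm : m ∈ hfin.toFinset.erase q₀ := Finset.mem_erase.2 ⟨hne, hfin.mem_toFinset.2 hm⟩
      obtain ⟨k, hk⟩ := Finset.dvd_prod_of_mem a hmm
      rw [hk]
      exact m.mul_mem_right _ (ha m hm hne).1
  obtain ⟨G, hG⟩ := Algebra.FiniteType.out (R := K) (A := B)
  obtain ⟨y, hy0, hy⟩ := Algebra.IsAlgebraic.exists_integral_multiples R (G.image (Ideal.Quotient.mk q₀))
  obtain ⟨r, hr0, hr⟩ := (Algebra.IsAlgebraic.isAlgebraic (R := R) (Ideal.Quotient.mk q₀ e)).exists_nonzero_dvd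
    (mem_nonZeroDivisors_of_ne_zero fun h => he₀ (Ideal.Quotient.eq_zero_iff_mem.1 h))
  let c : R := y * r
  obtain ⟨x, hx, hxc⟩ := exists_eval_ne_zero (c := c) (mul_ne_zero hy0 hr0)
  choose p hp hpx using hx
  let J : Ideal A := Ideal.span (Set.range fun i => Polynomial.eval₂ (Int.castRingHom A) (f i) (p i))
  let Rc := Localization (Submonoid.powers c)
  let M := Algebra.algebraMapSubmonoid D (Submonoid.powers c)
  let Dc := Localization M
  have hM : M ≤ nonZeroDivisors D := by
    rintro _ ⟨s, ⟨n, rfl⟩, rfl⟩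
    exact mem_nonZeroDivisors_of_ne_zero ((map_ne_zero_iff _ hRD).2 (pow_ne_zero n (mul_ne_zero hy0 hr0)))
  haveI : IsDomain Dc := IsLocalization.isDomain_localization hM
  haveI : IsScalarTower R Rc Dc := IsScalarTower.of_algebraMap_eq fun a => by
    rw [IsScalarTower.algebraMap_apply R D Dc]
    exact (IsLocalization.map_eq (M := Submonoid.powers c) _ a).symm
  have hu : ∀ z : R, z ∣ c → IsUnit (algebraMap R Rc z) := fun z hz =>
    isUnit_of_dvd_unit ((algebraMap R Rc).map_dvd hz) (IsLocalization.Away.algebraMap_isUnit c)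
  have hint : ∀ d : D, IsIntegral Rc (algebraMap D Dc d) := fun d => by
    obtain ⟨b, rfl⟩ := Ideal.Quotient.mk_surjective d
    have hb : b ∈ Algebra.adjoin K (G : Set B) := by rw [hG]; trivial
    induction hb using Algebra.adjoin_induction with
    | mem g hg =>
      have h1 : IsIntegral Rc (algebraMap D Dc (y • Ideal.Quotient.mk q₀ g)) :=
        ((hy _ (Finset.mem_image_of_mem _ hg)).map (IsScalarTower.toAlgHom R D Dc)).tower_top
      obtain ⟨u, hu'⟩ := hu y (dvd_mul_right y r)
      rw [Algebra.smul_def, map_mul, ← IsScalarTower.algebraMap_apply, IsScalarTower.algebraMap_apply R Rc Dc, ← hu']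
        at h1
      have := (isIntegral_algebraMap (R := Rc) (A := Dc) (x := (↑u⁻¹ : Rc))).mul h1
      rwa [← mul_assoc, ← map_mul, Units.inv_mul, map_one, one_mul] at this
    | algebraMap a =>
      rw [show algebraMap D Dc (Ideal.Quotient.mk q₀ (algebraMap K B a)) =
        algebraMap Rc Dc (algebraMap R Rc (algebraMap K R a)) by
          rw [← IsScalarTower.algebraMap_apply R Rc Dc, IsScalarTower.algebraMap_apply R D Dc,
            ← IsScalarTower.algebraMap_apply K R D]
          rfl]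
      exact isIntegral_algebraMap
    | add a b _ _ ha hb => rw [map_add, map_add]; exact ha.add hb
    | mul a b _ _ ha hb => rw [map_mul, map_mul]; exact ha.mul hb
  haveI : Algebra.IsIntegral Rc Dc := ⟨fun z => by
    obtain ⟨⟨d, ⟨_, ⟨s, hs, rfl⟩⟩⟩, hz⟩ := IsLocalization.surj M z
    obtain ⟨u, hu'⟩ := IsLocalization.map_units Rc (⟨s, hs⟩ : Submonoid.powers c)
    have hz' : z * algebraMap Rc Dc (u : Rc) = algebraMap D Dc d := by
      rw [hu', ← IsScalarTower.algebraMap_apply, IsScalarTower.algebraMap_apply R D Dc]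
      exact hz
    have := (hint d).mul (isIntegral_algebraMap (R := Rc) (A := Dc) (x := (↑u⁻¹ : Rc)))
    rwa [← hz', mul_assoc, ← map_mul, Units.mul_inv, map_one, mul_one] at this⟩
  -- a prime over the point
  have hker : RingHom.ker (algebraMap Rc Dc) = ⊥ := by
    rw [← RingHom.injective_iff_ker_eq_bot, injective_iff_map_eq_zero]
    intro z hz
    obtain ⟨⟨a, s⟩, h⟩ := IsLocalization.surj (Submonoid.powers c) z
    have h1 := congrArg (algebraMap Rc Dc) h
    rw [map_mul, hz, zero_mul, ← IsScalarTower.algebraMap_apply, IsScalarTower.algebraMap_apply R D Dc] at h1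
    have ha : a = 0 := hRD (((IsLocalization.injective Dc hM) (h1.symm.trans (map_zero _).symm)).trans (map_zero _).symm)
    change z * algebraMap R Rc s = algebraMap R Rc a at h
    rw [ha, map_zero, (IsLocalization.map_units Rc s).mul_left_eq_zero] at h
    exact h
  let P₀ : Ideal R := RingHom.ker (aeval x : R →ₐ[K] AlgebraicClosure K)
  have hP₀ : P₀.IsPrime := RingHom.ker_isPrime _
  have hdisj : Disjoint (Submonoid.powers c : Set R) (P₀ : Set R) := Set.disjoint_left.2 (by
    rintro _ ⟨n, rfl⟩ hn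
    exact hxc (eq_zero_of_pow_eq_zero (by rwa [← map_pow])))
  haveI := IsLocalization.isPrime_of_isPrime_disjoint (Submonoid.powers c) Rc P₀ hP₀ hdisj
  obtain ⟨Q₁, hQ₁, hQP⟩ := Ideal.exists_ideal_over_prime_of_isIntegral_of_isDomain (S := Dc)
    (P₀.map (algebraMap R Rc)) (hker.le.trans bot_le)
  let ψ : B →+* Dc := (algebraMap D Dc).comp (Ideal.Quotient.mk q₀)
  let Ji : Ideal Dc := Ideal.span (Set.range fun i : t => algebraMap R Dc (Polynomial.eval₂ (Int.castRingHom R) (X i) (p i)))
  have hJi : ∀ i, ψ (φ (Polynomial.eval₂ (Int.castRingHom A) (f i) (p i))) =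
      algebraMap R Dc (Polynomial.eval₂ (Int.castRingHom R) (X i) (p i)) := fun i => by
    rw [IsScalarTower.algebraMap_apply R D Dc]
    show algebraMap D Dc (((Ideal.Quotient.mk q₀).comp φ) _) = _
    refine congrArg (algebraMap D Dc) ?_
    rw [Polynomial.hom_eval₂, Polynomial.hom_eval₂]
    congr 1
    · exact RingHom.ext_int _ _
    · rw [hf i]
      exact (aeval_X _ i).symm
  have hQJ : Ji ≤ Q₁ := Ideal.span_le.2 (by
    rintro _ ⟨i, rfl⟩
    show algebraMap R Dc _ ∈ Q₁
    rw [IsScalarTower.algebraMap_apply R Rc Dc, ← Ideal.mem_comap, hQP]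
    refine Ideal.mem_map_of_mem _ ?_
    show aeval x (Polynomial.eval₂ (Int.castRingHom R) (X i) (p i)) = 0
    rw [← AlgHom.coe_toRingHom, Polynomial.hom_eval₂, RingHom.ext_int (RingHom.comp _ (Int.castRingHom R))
      (algebraMap ℤ _)]
    rw [AlgHom.coe_toRingHom, aeval_X]
    exact hpx i)
  have hmax : ∀ Q : Ideal Dc, Q.IsPrime → Ji ≤ Q → Q.IsMaximal := fun Q hQ hle => by
    haveI := hQ
    refine Ideal.Quotient.maximal_of_isField Q ?_
    haveI : Algebra.IsIntegral Rc (Dc ⧸ Q) := inferInstance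
    refine @isField_of_generators K _ t (Dc ⧸ Q) _ _ _ Rc _ _ _ c _ _ _ _ _ fun i => ?_
    refine ⟨(p i).map (algebraMap ℤ K), (hp i).map _, ?_⟩
    rw [Polynomial.eval₂_map, ← IsScalarTower.algebraMap_eq]
    have := Ideal.Quotient.eq_zero_iff_mem.2 (hle (Ideal.subset_span ⟨i, rfl⟩))
    beta_reduce at this
    rw [Polynomial.hom_eval₂, Polynomial.hom_eval₂] at this
    rw [← this]
    congr 1
    exact RingHom.ext_int _ _
  haveI : IsNoetherianRing Dc := IsLocalization.isNoetherianRing M _ inferInstance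
  have hFfin : {Q : Ideal Dc | Q.IsPrime ∧ Ji ≤ Q}.Finite := by
    refine (Ideal.finite_minimalPrimes_of_isNoetherianRing Dc Ji).subset fun Q hQ => ?_
    obtain ⟨m, hm, hmQ⟩ := @Ideal.exists_minimalPrimes_le _ _ Ji Q hQ.1 hQ.2
    rwa [← (hmax m hm.1.1 hm.1.2).eq_of_le hQ.1.ne_top hmQ]
  have : ∀ Q : Ideal Dc, ∃ a : B, Q.IsPrime → Ji ≤ Q → Q ≠ Q₁ → ψ a ∈ Q ∧ ψ a ∉ Q₁ := fun Q => by
    by_cases h : Q.IsPrime ∧ Ji ≤ Q ∧ Q ≠ Q₁
    · obtain ⟨z, hz, hz'⟩ := SetLike.not_le_iff_exists.1 fun hle =>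
        h.2.2 ((hmax Q h.1 h.2.1).eq_of_le hQ₁.ne_top hle)
      obtain ⟨⟨d, s⟩, hs⟩ := IsLocalization.surj M z
      obtain ⟨a, ha⟩ := Ideal.Quotient.mk_surjective d
      refine ⟨a, fun _ _ _ => ?_⟩
      have e : ψ a = z * algebraMap D Dc (s : D) := by rw [hs, ← ha]; rfl
      rw [e]
      exact ⟨Q.mul_mem_right _ hz, fun h => (hQ₁.mem_or_mem h).elim hz'
        fun h' => hQ₁.ne_top (Ideal.eq_top_of_isUnit_mem _ h' (IsLocalization.map_units Dc s))⟩
    · exact ⟨0, fun h1 h2 h3 => absurd ⟨h1, h2, h3⟩ h⟩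
  choose a ha using this
  obtain ⟨cB, hcB⟩ := Ideal.Quotient.mk_surjective (algebraMap R D c)
  let b : B := e * cB * ∏ Q ∈ hFfin.toFinset.erase Q₁, a Q
  have hcu : IsUnit (algebraMap D Dc (algebraMap R D c)) :=
    IsLocalization.map_units Dc (⟨_, Algebra.mem_algebraMapSubmonoid_of_mem (⟨c, Submonoid.mem_powers c⟩ : Submonoid.powers c)⟩ : M)
  have hbQ : ψ b ∉ Q₁ := fun h => by
    rw [map_mul, map_mul] at h
    rcases hQ₁.mem_or_mem h with h | h
    · refine hQ₁.ne_top (Ideal.eq_top_of_isUnit_mem _ h ?_)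
      refine IsUnit.mul ?_ ?_
      · exact isUnit_of_dvd_unit ((algebraMap D Dc).map_dvd (hr.trans ((algebraMap R D).map_dvd (dvd_mul_left r y)))) hcu
      · show IsUnit (algebraMap D Dc (Ideal.Quotient.mk q₀ cB))
        rw [hcB]
        exact hcu
    · rw [map_prod] at h
      obtain ⟨Q, hQ, hQ'⟩ := hQ₁.prod_mem_iff.1 h
      rw [Finset.mem_erase, Set.Finite.mem_toFinset] at hQ
      exact (ha Q hQ.2.1 hQ.2.2 hQ.1).2 hQ'
  refine ⟨J, ⟨Q₁.comap ψ, Ideal.IsPrime.comap ψ⟩, b, ?_, hbQ, fun q' hb hJ => ?_⟩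
  · refine Ideal.span_le.2 ?_
    rintro _ ⟨i, rfl⟩
    exact hQJ (Ideal.subset_span ⟨i, (hJi i).symm⟩)
  · obtain ⟨m, hm, hmq⟩ := Ideal.exists_minimalPrimes_le (I := (⊥ : Ideal B)) (J := q'.asIdeal) bot_le
    obtain rfl : m = q₀ := he m hm fun h => hb (Ideal.mul_mem_right _ _ (Ideal.mul_mem_right _ _ (hmq h)))
    let q'' : Ideal D := q'.asIdeal.map (Ideal.Quotient.mk m)
    have hq'' : q''.comap (Ideal.Quotient.mk m) = q'.asIdeal := by
      rw [Ideal.comap_map_of_surjective _ Ideal.Quotient.mk_surjective, ← RingHom.ker_eq_comap_bot, Ideal.mk_ker]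
      exact sup_eq_left.2 hmq
    haveI : q''.IsPrime := Ideal.map_isPrime_of_surjective Ideal.Quotient.mk_surjective (by rwa [Ideal.mk_ker])
    have hdisj : Disjoint (M : Set D) (q'' : Set D) := Set.disjoint_left.2 (by
      rintro _ ⟨_, ⟨n, rfl⟩, rfl⟩ hn
      have hn' : algebraMap R D c ∈ q'' := ‹q''.IsPrime›.mem_of_pow_mem n (by rwa [← map_pow])
      rw [← hcB] at hn'
      exact hb (Ideal.mul_mem_right _ _ (Ideal.mul_mem_left _ _ (hq''.le hn'))))
    let Q := q''.map (algebraMap D Dc)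
    haveI hQ : Q.IsPrime := IsLocalization.isPrime_of_isPrime_disjoint M Dc q'' ‹_› hdisj
    have hQc : Q.comap ψ = q'.asIdeal := by
      rw [show ψ = (algebraMap D Dc).comp (Ideal.Quotient.mk m) from rfl, ← Ideal.comap_comap,
        show Q.comap (algebraMap D Dc) = q'' from IsLocalization.under_map_of_isPrime_disjoint M Dc ‹_› hdisj, hq'']
    have hle : Ji ≤ Q := Ideal.span_le.2 (by
      rintro _ ⟨i, rfl⟩
      show algebraMap R Dc _ ∈ Q
      rw [← hJi i, ← Ideal.mem_comap, hQc]
      exact hJ (Ideal.subset_span ⟨i, rfl⟩))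
    refine PrimeSpectrum.ext ?_
    show q'.asIdeal = Q₁.comap ψ
    by_contra hne
    have hQne : Q ≠ Q₁ := fun h => hne (by rw [← h, hQc])
    refine hb (Ideal.mul_mem_left _ _ ?_)
    rw [← hQc, Ideal.mem_comap, map_prod]
    have hmem : Q ∈ hFfin.toFinset.erase Q₁ := Finset.mem_erase.2 ⟨hQne, hFfin.mem_toFinset.2 ⟨hQ, hle⟩⟩
    obtain ⟨k, hk⟩ := Finset.dvd_prod_of_mem (fun Q => ψ (a Q)) hmem
    rw [hk]
    exact Q.mul_mem_right _ (ha Q hQ hle hQne).1

end Groth.Agent.DMSlice

end
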