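import Groth.Agent.DMSlice.NearLocus
import Groth.Agent.LargestOpen.Instances

/-!
# The open part of a chart on which the map to the stack has a property
-/

set_option autoImplicit false
set_option backward.isDefEq.respectTransparency false
set_option backward.isDefEq.respectTransparency.types false
set_option linter.style.haveILetI false
universe u

noncomputable section

namespace Groth.Agent.DMSlice

open CategoryTheory CategoryTheory.Limits AlgebraicGeometry Groth.Agent.AlgSpLib Groth.Agent.StkBasic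
  Groth.Agent.FibCatRep Groth.Agent.FibCat2Misc Groth.Agent.AlgStLib
open _root_.AlgSp _root_.AlgSt

variable {S : Scheme.{u}} {𝒳 : AlgSt.Cat S} {T X : AlgSp.Space S} {t : AlgSt.ofSp T.obj ⥤ᵇ 𝒳}
  {f : AlgSt.ofSp X.obj ⥤ᵇ 𝒳}

/-- the projection of a model to the source -/
def toSrc (m : Mdl f t) : m.A ⟶ X :=
  ObjectProperty.homMk (ObjectProperty.homMk (mapOf (BasedFunctor.comp m.e (FibCat.fpSnd t f))))

theorem pts_fpSnd (m : Mdl f t) (x : AlgSp.Points m.A.obj) :
    AlgSt.Points.map (FibCat.fpSnd t f) (m.pts x) = stPts X.obj (AlgSp.Points.map (toSrc m).hom x) := by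
  rw [Mdl.pts, ← map_comp_points, map_eq_stPts]
  rfl

/-- models of composites with maps to the source -/
theorem exists_mdl_comp (m : Mdl f t) {X' : AlgSp.Space S} (i : X' ⟶ X) {P : AlgSp.Space S} {fst : P ⟶ m.A}
    {snd : P ⟶ X'} (sq : IsPullback fst.hom snd.hom (toSrc m).hom i.hom) :
    ∃ (e : AlgSt.ofSp P.obj ⥤ᵇ FibCat.fp t (BasedFunctor.comp (Stk.ofPshMap i.hom.hom) f))
      (he : FibCat.IsEquivOver e) (pr : (fst ≫ m.a).hom.hom = prjMap e),
      toSrc (⟨P, fst ≫ m.a, e, he, pr⟩ : Mdl (BasedFunctor.comp (Stk.ofPshMap i.hom.hom) f) t) = snd := by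
  obtain ⟨e', he', hsnd, ⟨j⟩⟩ := exists_model_baseChange' (f := t) (y := f) i.hom.hom
    (isEquivOver_comp m.he (isEquivOver_swapFun t f)) (sq.map (sheafToPresheaf (J S) (Type (u + 1))))
  refine ⟨BasedFunctor.comp e' (swapFun _ t), isEquivOver_comp he' (isEquivOver_swapFun _ t), ?_,
    ObjectProperty.hom_ext _ (ObjectProperty.hom_ext _ hsnd)⟩
  show fst.hom.hom ≫ m.a.hom.hom = _
  rw [m.pr]
  refine Eq.symm ((mapOf_congr j).trans ?_)
  rw [mapOf_comp, mapOf_ofPshMap]
  rfl

variable {P Qs : MorphismProperty Scheme.{u}}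

set_option maxHeartbeats 1000000 in
/-- a set of points for an atlas, without stack conditions on the target -/
theorem exists_isMaxOn' (H : LocusHyp (LocP P) (LocP Qs) (LocP (S := S) @Smooth)) (h : FibCat.IsFibGrpd 𝒳.p)
    (hf : RepByAlgSpWith (LocP Qs) f) {V : AlgSp.Space S} (y : AlgSt.ofSp V.obj ⥤ᵇ 𝒳)
    (hy : RepByAlgSpWith (LocP @Smooth) y) :
    ∃ O, IsOpen O ∧ IsMaxOn (LocP P) f O y := by
  have hX := isFibGrpd_ofSpace (S := S) X.obj.obj
  obtain ⟨m⟩ := exists_mdl H hX h hf y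
  obtain ⟨W, w, hw⟩ := H.ex _ _ m.a (m.prop H.hQb H.hQ hf)
  have hA : IsAlgStack Scheme.fppfPrecoverage (FibCat.fp y f) := isAlgStack_of_equiv m.he (isAlgStack_ofSp m.A)
  let O := AlgSt.Points.map (FibCat.fpSnd y f) '' m.ptSet w
  refine ⟨O, isOpenMap_map_of_smooth hA (isAlgStack_ofSp X) (repWith_fpSnd _ y f hy) _ (isOpen_ptSet m w hw.1), ?_⟩
  obtain ⟨B, k₁, eB, heB, hk₁, hsm₁⟩ := exists_model_space cls_smooth.bc cls_smooth.loc (isFibGrpd_ofSpace _)
    h hy V y
  let k₂ : B ⟶ V := ObjectProperty.homMk (ObjectProperty.homMk (mapOf (BasedFunctor.comp eB (FibCat.fpSnd y y))))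
  have hsm₂ : LocP @Smooth k₂.hom := prop_prjMap cls_smooth.bc cls_smooth.loc hy
    (e := BasedFunctor.comp eB (swapFun y y)) (isEquivOver_comp heB (isEquivOver_swapFun y y)) k₂ rfl
  obtain ⟨mB⟩ := exists_mdl H hX h hf (BasedFunctor.comp (BasedFunctor.comp eB (FibCat.fpFst y y)) y)
  obtain ⟨WB, wB, hwB⟩ := H.ex _ _ mB.a (mB.prop H.hQb H.hQ hf)
  have h₁ := preimage_ptSet H hf _ k₁ hk₁ (H.sm _ _ _ hsm₁) (Iso.refl _) m mB hw hwB
  have h₂ := preimage_ptSet H hf (BasedFunctor.comp eB (FibCat.fpSnd y y)) k₂ rfl (H.sm _ _ _ hsm₂)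
    ((Stk.restr eB _).mapIso (FibCat.fpIso y y).symm) m mB hw hwB
  have hsat : m.ptSet w = AlgSt.Points.map (FibCat.fpSnd y f) ⁻¹' O := by
    refine Set.Subset.antisymm (Set.subset_preimage_image _ _) fun q ⟨p, hp, hpq⟩ => ?_
    obtain ⟨ζ, hζ₁, hζ₂⟩ := exists_pair_point hX h y eB heB p q hpq
    have : ζ ∈ mB.ptSet wB := h₁ ▸ show _ ∈ m.ptSet w from hζ₁ ▸ hp
    rw [← h₂, Set.mem_preimage, hζ₂] at this
    exact this
  intro m' W' w' hw'
  have hid : LocP @Smooth (𝟙 V : V ⟶ V).hom := H.sm _ _ _ (locP_mono (fun _ _ r hr => by haveI : Etale r := hr; infer_instance) _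
    ((isEtaleMor_iff_locP V.property).1 (isEtaleMor_of_repWith' ((AlgSp.RepWith @Etale).id_mem V.obj))))
  rw [← preimage_ptSet H hf (BasedFunctor.id _) (𝟙 V) (mapOf_ofPshMap (𝟙 V.obj.obj)).symm hid (Iso.refl _) m m' hw hw', hsat]
  ext p
  obtain ⟨p, rfl⟩ := AlgSt.Points.mk_surjective p
  rfl

theorem map_ofScheme {T T' : Over S} (φ : T ⟶ T') (t : ↥T.left) :
    AlgSp.Points.map ((yon S).map φ) (AlgSp.Points.ofScheme T t) = AlgSp.Points.ofScheme T' (φ.left t) := by
  rw [← AlgSpLib.ofScheme_map φ t, AlgSp.Points.map_ofPt, Category.id_comp]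

variable {U M : Over S} {y : AlgSt.ofSp (spOf U).obj ⥤ᵇ 𝒳}

/-- the restriction of a scheme over `S` to an open -/
abbrev openPart (M : Over S) (V : M.left.Opens) : Over S := Over.mk (V.ι ≫ M.hom)

/-- the inclusion of an open part -/
abbrev openPartIncl (M : Over S) (V : M.left.Opens) : openPart M V ⟶ M := Over.homMk V.ι rfl

/-- the composite chart -/
abbrev chartComp (π : M ⟶ U) (y : AlgSt.ofSp (spOf U).obj ⥤ᵇ 𝒳) : AlgSt.ofSp (spOf M).obj ⥤ᵇ 𝒳 :=
  BasedFunctor.comp (Stk.ofPshMap ((yon S).map π).hom) y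

set_option maxHeartbeats 1000000 in
/-- the open part of a chart over an atlas on which the map to the stack has a property -/
theorem exists_open_of_near (h : FibCat.IsFibGrpd 𝒳.p) (hd : RepByAlgSp1 (FibCat.diag (FibCat.toSelf 𝒳)))
    (hP : EtST P) [IsZariskiLocalAtSource P] (hcP : Cls (LocP (S := S) P))
    (H : LocusHyp (LocP P) (LocP Qs) (LocP (S := S) @Smooth))
    (hy : RepByAlgSpWith (LocP @Smooth) y) (hy' : RepByAlgSpWith AlgSp.IsSurjectiveMor y)
    (π : M ⟶ U) (hG : RepByAlgSpWith (LocP Qs) (chartComp π y)) (R : Mdl y y) :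
    ∃ V : M.left.Opens, RepByAlgSpWith (LocP P) (chartComp (openPartIncl M V ≫ π) y) ∧
      ∀ {B : AlgSp.Space S} {fst : B ⟶ R.A} {snd : B ⟶ spOf M}
        (_ : IsPullback fst.hom snd.hom (toSrc R).hom ((yon S).map π)) (b : AlgSp.Points B.obj) (z : M.left),
        Near P (fst ≫ R.a).hom b → AlgSp.Points.map snd.hom b = AlgSp.Points.ofScheme M z → z ∈ V := by
  obtain ⟨O, hO, hmax⟩ := exists_isMaxOn' H h hG y hy
  let V : M.left.Opens := ⟨(fun z => stPts (spOf M).obj (AlgSp.Points.ofScheme M z)) ⁻¹' O,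
    hO.preimage ((isHomeomorph_stPts (spOf M)).continuous.comp (AlgSp.Points.schemeHomeo M).continuous)⟩
  -- the model of the chart over the atlas
  have sqA := IsPullback.of_hasPullback (toSrc R).hom ((yon S).map π)
  let A : AlgSp.Space S := ⟨_, isAlgSpace_of_isPullback_space (IsAlgSpace.yon_obj U) R.A.property
    (IsAlgSpace.yon_obj M) sqA⟩
  let fA : A ⟶ R.A := ObjectProperty.homMk (pullback.fst _ _)
  let sA : A ⟶ spOf M := ObjectProperty.homMk (pullback.snd _ _)
  obtain ⟨e₀, he₀, pr₀, hms⟩ := exists_mdl_comp R (i := (ObjectProperty.homMk ((yon S).map π) : spOf M ⟶ spOf U))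
    (fst := fA) (snd := sA) sqA
  let m : Mdl (chartComp π y) y := ⟨A, fA ≫ R.a, e₀, he₀, pr₀⟩
  replace hms : toSrc m = sA := hms
  have hma : m.a = fA ≫ R.a := rfl
  obtain ⟨W, w, hw⟩ := H.ex _ _ m.a (m.prop H.hQb H.hQ hG)
  have hS := hmax m W w hw
  have key : ∀ x, x ∈ Set.range (AlgSp.Points.map w.hom) ↔
      stPts (spOf M).obj (AlgSp.Points.map (toSrc m).hom x) ∈ O := fun x => by
    rw [← pts_fpSnd m x]
    refine ⟨fun hx => hS.le ⟨x, hx, rfl⟩, fun hx => ?_⟩
    obtain ⟨x', hx', e⟩ := hS.ge hx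
    rwa [← m.bijective_pts.1 e]
  refine ⟨V, ?_, ?_⟩
  · have sqV := IsPullback.of_hasPullback (toSrc m).hom ((yon S).map (openPartIncl M V))
    let A' : AlgSp.Space S := ⟨_, isAlgSpace_of_isPullback_space (IsAlgSpace.yon_obj M) m.A.property
      (IsAlgSpace.yon_obj (openPart M V)) sqV⟩
    let fA' : A' ⟶ m.A := ObjectProperty.homMk (pullback.fst _ _)
    let sA' : A' ⟶ spOf (openPart M V) := ObjectProperty.homMk (pullback.snd _ _)
    obtain ⟨e₁, he₁, pr₁, -⟩ := exists_mdl_comp m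
      (i := (ObjectProperty.homMk ((yon S).map (openPartIncl M V)) : spOf (openPart M V) ⟶ spOf M))
      (fst := fA') (snd := sA') sqV
    let m' : Mdl (BasedFunctor.comp (Stk.ofPshMap ((yon S).map (openPartIncl M V)).hom) (chartComp π y)) y :=
      ⟨A', fA' ≫ m.a, e₁, he₁, pr₁⟩
    have hma' : m'.a = fA' ≫ m.a := rfl
    obtain ⟨l, hl⟩ := (exists_factor_iff W.property m.A.property w.hom hw.1 fA'.hom).2 (by
      rintro _ ⟨x, rfl⟩
      obtain ⟨v, hv⟩ := (AlgSp.Points.schemeEquiv (openPart M V)).surjective (AlgSp.Points.map sA'.hom x)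
      rw [key, ← AlgSp.Points.map_comp]
      have e : fA'.hom ≫ (toSrc m).hom = sA'.hom ≫ (yon S).map (openPartIncl M V) := sqV.w
      rw [e, AlgSp.Points.map_comp, ← hv]
      show stPts (spOf M).obj (AlgSp.Points.map ((yon S).map (openPartIncl M V))
        (AlgSp.Points.ofScheme (openPart M V) v)) ∈ O
      rw [map_ofScheme]
      exact v.2)
    have hfo : AlgSp.RepWith @IsOpenImmersion fA'.hom :=
      repWith_baseChange sqV.flip ((repWith_yon_iff _).2 (inferInstanceAs (IsOpenImmersion V.ι)))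
    have hlo : LocP P l := by
      haveI : Mono w.hom := mono_of_repWith_immersion (AlgSpLib.repWith_mono (P := @IsOpenImmersion) (Q := @IsImmersion)
        (fun _ _ g hg => have : IsOpenImmersion g := hg; inferInstance) hw.1)
      refine LargestOpen.locP_of_openImm P hP l W.property (repWith_baseChange (f := fA'.hom) (g := w.hom) (fst := 𝟙 A'.obj) ?_ hfo)
      refine isPullback_of_points (by rw [Category.id_comp, hl]) fun T a b e => ⟨a, ⟨Category.comp_id _, ?_⟩,
        fun z hz => (Category.comp_id z).symm.trans hz.1⟩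
      rw [← cancel_mono w.hom, Category.assoc, hl, e]
    have hP' : LocP P m'.a.hom := by
      rw [hma']
      show LocP P (fA'.hom ≫ m.a.hom)
      rw [← hl, Category.assoc]
      exact hcP.comp m'.A.property W.property (IsAlgSpace.yon_obj U) l (w ≫ m.a).hom hlo hw.2.1
    let G' := BasedFunctor.comp (Stk.ofPshMap ((yon S).map (openPartIncl M V)).hom) (chartComp π y)
    have hrep : RepByAlgSp1 G' := repByAlgSp1_point h hd (isAlgSpaceP_yon (openPart M V)) G'
    have hG' : RepByAlgSpWith (LocP P) G' := by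
      refine repWith_of_lifts H.hPb H.hP hrep (lifts_of_fppf ?_ ?_ hy') (repWith_fpFst_of_model H.hPb m'.he (a := m'.a) ?_ hP')
      · exact AlgStLib.repWith_mono hy fun _ _ a _ ha => locP_mono (fun _ _ r hr => by haveI : Smooth r := hr; infer_instance) a ha
      · exact AlgStLib.repWith_mono hy fun _ _ a _ ha => locP_mono (fun _ _ r hr => by haveI : Smooth r := hr; infer_instance) a ha
      · exact (mapOfIso _).symm ≪≫ eqToIso (congrArg Stk.ofPshMap m'.pr.symm)
    haveI := respectsIso_onSp hcP.bc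
    refine repWith_onSp_iff.1 (repWith_congr _ ?_ (repWith_onSp_iff.2 hG'))
    exact eqToIso (by
      show BasedFunctor.comp (Stk.ofPshMap ((yon S).map (openPartIncl M V ≫ π)).hom) y =
        BasedFunctor.comp (Stk.ofPshMap ((yon S).map (openPartIncl M V)).hom)
          (BasedFunctor.comp (Stk.ofPshMap ((yon S).map π).hom) y)
      rw [Functor.map_comp]
      rfl)
  · intro B fst snd sq b z hb hz
    let iso : B.obj ≅ m.A.obj := sq.isoIsPullback _ _ sqA
    have e₁ : iso.hom ≫ m.a.hom = (fst ≫ R.a).hom := by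
      rw [hma]
      show iso.hom ≫ pullback.fst _ _ ≫ R.a.hom = fst.hom ≫ R.a.hom
      rw [← Category.assoc, IsPullback.isoIsPullback_hom_fst]
    have e₂ : iso.hom ≫ (toSrc m).hom = snd.hom := by
      rw [hms]
      exact IsPullback.isoIsPullback_hom_snd ..
    obtain ⟨B', hB', j, hj, ⟨b', rfl⟩, hjP⟩ := (hasAtMor_iff_exists_open hP B.property (IsAlgSpace.yon_obj U) _ _).1 hb
    have : AlgSp.Points.map (j ≫ iso.hom) b' ∈ Set.range (AlgSp.Points.map w.hom) := by
      obtain ⟨k, hk⟩ := hw.2.2 ⟨B', hB'⟩ (ObjectProperty.homMk (j ≫ iso.hom))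
        (repWith_comp hj (repWith_of_isIso iso.hom)) (by
          show LocP P ((j ≫ iso.hom) ≫ m.a.hom)
          rw [Category.assoc, e₁]
          exact hjP)
      refine ⟨AlgSp.Points.map k.hom b', ?_⟩
      rw [← AlgSp.Points.map_comp]
      exact congrArg (fun q => AlgSp.Points.map q b') (congrArg (fun q => q.hom) hk)
    rw [key, ← AlgSp.Points.map_comp, Category.assoc, e₂, AlgSp.Points.map_comp, hz] at this
    exact this

end Groth.Agent.DMSlice

end
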